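import Cfsg.Prelude.Def_KGroupFacts
import Mathlib.GroupTheory.SemidirectProduct
import Mathlib.GroupTheory.NoncommCoprod
import Mathlib.GroupTheory.QuotientGroup.Basic
import Mathlib.Data.Int.Cast.Lemmas
import Mathlib.Tactic.Group

/-!
# BH, box HT: cyclic extensions with an enlarged centre (helper79)

`Cx δ m k0 lam W` : `W = ⟨K, d, U⟩`, `d` induces `δ`, `d ^ m = k0`, `U` is central and contains `Z(K)`.
-/

set_option autoImplicit false

namespace Cfsg.Agent.BH.Ht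

open Cfsg Function SemidirectProduct

theorem conj_zpow_hom {K W : Type*} [Group K] [Group W] {δ : MulAut K} {f : K →* W} {y : W}
    (h : ∀ k, y * f k * y⁻¹ = f (δ k)) (i : ℤ) (k : K) : y ^ i * f k * (y ^ i)⁻¹ = f ((δ ^ i) k) := by
  have h' : ∀ k, y⁻¹ * f k * y = f (δ⁻¹ k) := fun k => by
    have h1 := h (δ⁻¹ k)
    rw [MulAut.apply_inv_self] at h1
    rw [← h1]
    group
  induction i using Int.induction_on generalizing k with
  | zero => simp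
  | succ i ih =>
    rw [zpow_add_one, zpow_add_one, MulAut.mul_apply, ← ih, ← h]
    group
  | pred i ih =>
    rw [zpow_sub_one, zpow_sub_one, MulAut.mul_apply, ← ih, ← h']
    group

theorem zpow_fix {K : Type*} [Group K] {δ : MulAut K} {k : K} (h : δ k = k) (i : ℤ) : (δ ^ i) k = k :=
  (MulAction.stabilizer (MulAut K) k).zpow_mem (x := δ) h i

/-- the extension -/
structure Cx {K U : Type} [Group K] [CommGroup U] (δ : MulAut K) (m : ℕ) (k0 : K)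
    (lam : Subgroup.center K →* U) (W : Type) [Group W] where
  ι : K →* W
  ω : U →* W
  d : W
  ιi : Injective ι
  ωi : Injective ω
  ωc : ∀ u w, Commute (ω u) w
  ωl : ∀ z, ω (lam z) = ι z
  dk : ∀ k, d * ι k * d⁻¹ = ι (δ k)
  dm : d ^ m = ι k0
  gen : ∀ w, ∃ k, ∃ i : ℤ, ∃ u, w = ι k * d ^ i * ω u
  lift : ∀ (f : K →* W) (y : W), (∀ k, y * f k * y⁻¹ = f (δ k)) → y ^ m = f k0 →
    (∀ z : Subgroup.center K, f z = ι z) → ∃ φ : W →* W, (∀ k, φ (ι k) = f k) ∧ φ d = y ∧ ∀ u, φ (ω u) = ω u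

variable {K U : Type} [Group K] [CommGroup U] {δ : MulAut K} {m : ℕ} {k0 : K} {lam : Subgroup.center K →* U}

theorem exists_cx (hm : m ≠ 0) (h0 : δ ^ m = MulAut.conj k0) (h1 : δ k0 = k0)
    (hZ : ∀ z ∈ Subgroup.center K, δ z = z) (hl : Injective lam) :
    ∃ (W : Type) (_ : Group W), Nonempty (Cx δ m k0 lam W) := by
  let S := K ⋊[zpowersHom (MulAut K) δ] Multiplicative ℤ
  let t : S := inr (Multiplicative.ofAdd 1)
  have ht : ∀ k : K, t * inl k * t⁻¹ = inl (δ k) := fun k => by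
    rw [← map_inv, ← inl_aut]
    simp
  have hti : ∀ i : ℤ, t ^ i = inr (Multiplicative.ofAdd i) := fun i => by
    rw [← map_zpow, ← ofAdd_zsmul, smul_eq_mul, mul_one]
  have hS : ∀ x : S, ∃ k, ∃ i : ℤ, x = inl k * t ^ i := fun x =>
    ⟨x.left, x.right.toAdd, by rw [hti]; exact (inl_left_mul_inr_right x).symm⟩
  have hc : ∀ x : S, (∀ k, Commute x (inl k)) → Commute x t → ∀ y, Commute x y := fun x h2 h3 y => by
    obtain ⟨k, i, rfl⟩ := hS y
    exact (h2 k).mul_right (h3.zpow_right i)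
  have hfix : ∀ k : K, δ k = k → Commute (inl k : S) t := fun k hk => by
    have h2 := ht k
    rw [hk, mul_inv_eq_iff_eq_mul] at h2
    exact h2.symm
  let c0 : S := (inl k0)⁻¹ * t ^ m
  have hc0 : ∀ y, Commute c0 y := hc _ (fun k => by
    have h2 := conj_zpow_hom ht m k
    rw [zpow_natCast, zpow_natCast, h0, MulAut.conj_apply, map_mul, map_mul, map_inv, mul_inv_eq_iff_eq_mul] at h2
    change (inl k0)⁻¹ * t ^ m * inl k = inl k * ((inl k0)⁻¹ * t ^ m)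
    rw [mul_assoc, h2]
    group) ((hfix _ h1).inv_left.mul_left ((Commute.refl t).pow_left m))
  have hz : ∀ (z : Subgroup.center K) (y : S), Commute (inl (z : K) : S) y := fun z =>
    hc _ (fun k => (Commute.map (Subgroup.mem_center_iff.1 z.2 k).symm inl)) (hfix _ (hZ _ z.2))
  let r : Subgroup.center K →* S × U := ((inl : K →* S).comp (Subgroup.center K).subtype).prod lam⁻¹
  let C : Subgroup (S × U) := r.range ⊔ Subgroup.zpowers (c0, 1)
  have hr : r.range ≤ Subgroup.center _ := by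
    rintro _ ⟨z, rfl⟩
    exact Subgroup.mem_center_iff.2 fun y => Prod.ext (hz z y.1).symm (mul_comm _ _)
  have hC : C ≤ Subgroup.center _ := sup_le hr (Subgroup.zpowers_le.2
    (Subgroup.mem_center_iff.2 fun y => Prod.ext (hc0 y.1).symm (mul_comm _ _)))
  have nor : ∀ A : Subgroup (S × U), A ≤ Subgroup.center _ → A.Normal := fun A hA =>
    ⟨fun a ha g => by rwa [Subgroup.mem_center_iff.1 (hA ha) g, mul_inv_cancel_right]⟩
  have := nor _ hr
  have := nor _ hC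
  have key : ∀ (k : K) (u : U), ((inl k : S), u) ∈ C → ∃ z : Subgroup.center K, k = z ∧ u = (lam z)⁻¹ := by
    intro k u h
    obtain ⟨_, ⟨z, rfl⟩, _, ⟨i, rfl⟩, h2⟩ := Subgroup.mem_sup_of_normal_left.1 h
    have h3 : (inl (z : K) : S) * c0 ^ i = inl k := congrArg Prod.fst h2
    have h4 : (lam z)⁻¹ * (1 : U) ^ i = u := congrArg Prod.snd h2
    have h5 := congrArg (fun x : S => (rightHom x).toAdd) h3
    simp only [map_mul, map_zpow, map_inv, map_pow, rightHom_inl, c0, t, rightHom_inr, inv_one, one_mul,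
      toAdd_zpow, toAdd_pow, toAdd_ofAdd, toAdd_one, smul_eq_mul, nsmul_eq_mul, mul_one, mul_eq_zero,
      Nat.cast_eq_zero, hm, or_false] at h5
    rw [h5, zpow_zero, mul_one] at h3
    rw [one_zpow, mul_one] at h4
    exact ⟨z, (inl_injective h3).symm, h4.symm⟩
  let q := QuotientGroup.mk' C
  let ι : K →* (S × U) ⧸ C := q.comp ((MonoidHom.inl S U).comp inl)
  let ω : U →* (S × U) ⧸ C := q.comp (MonoidHom.inr S U)
  have ωc : ∀ u w, Commute (ω u) w := fun u w => by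
    obtain ⟨y, rfl⟩ := QuotientGroup.mk'_surjective C w
    exact Commute.map (show Commute ((1 : S), u) y from Prod.ext (Commute.one_left y.1) (mul_comm _ _)) q
  have ωl : ∀ z, ω (lam z) = ι z := fun z => by
    have h2 : q (r z) = 1 := (QuotientGroup.eq_one_iff _).2 (Subgroup.mem_sup_left ⟨z, rfl⟩)
    have h3 : r z * (1, lam z) = (inl (z : K), 1) := Prod.ext (mul_one _) (inv_mul_cancel _)
    change q (1, lam z) = q (inl (z : K), 1)
    rw [← h3, map_mul, h2, one_mul]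
  refine ⟨(S × U) ⧸ C, inferInstance, ⟨⟨ι, ω, q (t, 1), ?_, ?_, ωc, ωl, fun k => ?_, ?_, fun w => ?_, ?_⟩⟩⟩
  · rw [injective_iff_map_eq_one]
    intro k hk
    obtain ⟨z, h2, h3⟩ := key k 1 ((QuotientGroup.eq_one_iff _).1 hk)
    rw [h2, (injective_iff_map_eq_one lam).1 hl z (inv_eq_one.1 h3.symm)]
    rfl
  · rw [injective_iff_map_eq_one]
    intro u hu
    obtain ⟨z, h2, h3⟩ := key 1 u (by rw [map_one]; exact (QuotientGroup.eq_one_iff _).1 hu)
    rw [h3, show z = 1 from Subtype.ext h2.symm, map_one, inv_one]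
  · change q (t, 1) * q (inl k, 1) * (q (t, 1))⁻¹ = q (inl (δ k), 1)
    rw [← map_inv, ← map_mul, ← map_mul, ← ht]
    simp
  · have h2 : q (c0, 1) = 1 := (QuotientGroup.eq_one_iff _).2 (Subgroup.mem_sup_right (Subgroup.mem_zpowers _))
    have h3 : ((inl k0 : S), (1 : U)) * (c0, 1) = (t, 1) ^ m := Prod.ext (mul_inv_cancel_left _ _) (by simp)
    change _ = q (inl k0, 1)
    rw [← map_pow, ← h3, map_mul, h2, mul_one]
  · obtain ⟨⟨y, u⟩, rfl⟩ := QuotientGroup.mk'_surjective C w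
    obtain ⟨k, i, rfl⟩ := hS y
    refine ⟨k, i, u, ?_⟩
    change q _ = q (inl k, 1) * q (t, 1) ^ i * q (1, u)
    rw [← map_zpow q, ← map_mul, ← map_mul]
    simp
  · intro f y h2 h3 h4
    let Φ1 : S →* (S × U) ⧸ C := SemidirectProduct.lift f (zpowersHom _ y) fun g => MonoidHom.ext fun k =>
      (conj_zpow_hom h2 g.toAdd k).symm
    have e1 : ∀ k, Φ1 (inl k) = f k := fun k => lift_inl _ _ _ k
    have e2 : Φ1 t = y := (lift_inr _ _ _ _).trans (zpow_one y)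
    let Φ : S × U →* (S × U) ⧸ C := Φ1.noncommCoprod ω fun a u => (ωc u _).symm
    have e3 : ∀ a u, Φ (a, u) = Φ1 a * ω u := fun _ _ => rfl
    have h5 : C ≤ Φ.ker := by
      refine sup_le ?_ (Subgroup.zpowers_le.2 ?_)
      · rintro _ ⟨z, rfl⟩
        change Φ (inl (z : K), (lam z)⁻¹) = 1
        rw [e3, e1, h4, map_inv, ωl, mul_inv_cancel]
      · change Φ ((inl k0)⁻¹ * t ^ m, 1) = 1
        rw [e3, map_one, mul_one, map_mul, map_inv, map_pow, e1, e2, h3, inv_mul_cancel]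
    refine ⟨QuotientGroup.lift C Φ h5, fun k => ?_, ?_, fun u => ?_⟩
    · change Φ (inl k, 1) = _
      rw [e3, e1, map_one, mul_one]
    · change Φ (t, 1) = _
      rw [e3, e2, map_one, mul_one]
    · change Φ (1, u) = _
      rw [e3, map_one, one_mul]

namespace Cx

variable {W : Type} [Group W] (c : Cx δ m k0 lam W)

include c in
theorem finite [Finite K] [Finite U] (hm : m ≠ 0) : Finite W := by
  refine Finite.of_surjective (fun x : K × Fin m × U => c.ι x.1 * c.d ^ (x.2.1 : ℕ) * c.ω x.2.2) fun w => ?_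
  obtain ⟨k, i, u, rfl⟩ := c.gen w
  have h0 : (m : ℤ) ≠ 0 := Int.natCast_ne_zero.2 hm
  have h1 := Int.emod_nonneg i h0
  have h2 := Int.emod_lt_of_pos i (Int.natCast_pos.2 (Nat.pos_of_ne_zero hm))
  refine ⟨(k * k0 ^ (i / m), ⟨(i % m).toNat, by omega⟩, u), ?_⟩
  change c.ι (k * k0 ^ (i / m)) * c.d ^ (i % m).toNat * c.ω u = _
  rw [map_mul, map_zpow, ← c.dm, ← zpow_natCast, ← zpow_natCast, ← zpow_mul, Int.toNat_of_nonneg h1,
    mul_assoc (c.ι k), ← zpow_add, Int.mul_ediv_add_emod]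

theorem act (k : K) (i : ℤ) (u : U) (l : K) :
    c.ι k * c.d ^ i * c.ω u * c.ι l * (c.ι k * c.d ^ i * c.ω u)⁻¹ = c.ι ((MulAut.conj k * δ ^ i) l) := by
  rw [MulAut.mul_apply, MulAut.conj_apply, map_mul, map_mul, map_inv, ← conj_zpow_hom c.dk,
    mul_assoc _ (c.ω u), (c.ωc u _).eq]
  group

theorem conj_mem (w : W) (l : K) : ∃ l', w * c.ι l * w⁻¹ = c.ι l' := by
  obtain ⟨k, i, u, rfl⟩ := c.gen w
  exact ⟨_, c.act k i u l⟩

theorem normal : c.ι.range.Normal := ⟨by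
  rintro _ ⟨l, rfl⟩ w
  obtain ⟨l', h⟩ := c.conj_mem w l
  exact ⟨l', h.symm⟩⟩

theorem zpow_eq {i : ℤ} (h : (m : ℤ) ∣ i) : ∃ k, c.d ^ i = c.ι k := by
  obtain ⟨t, rfl⟩ := h
  exact ⟨k0 ^ t, by rw [zpow_mul, zpow_natCast, c.dm, map_zpow]⟩

/-- the centralizer of `K` is `U` -/
theorem cen (hm : ∀ i : ℤ, δ ^ i ∈ Inn K → (m : ℤ) ∣ i) {w : W} (h : ∀ l, w * c.ι l * w⁻¹ = c.ι l) :
    ∃ u, w = c.ω u := by
  obtain ⟨k, i, u, rfl⟩ := c.gen w
  have h1 : MulAut.conj k * δ ^ i = 1 := MulEquiv.ext fun l => c.ιi ((c.act k i u l).symm.trans (h l))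
  obtain ⟨k1, h2⟩ := c.zpow_eq (hm i ⟨k⁻¹, by rw [map_inv]; exact inv_eq_of_mul_eq_one_right h1⟩)
  have h3 : k * k1 ∈ Subgroup.center K := Subgroup.mem_center_iff.2 fun l => c.ιi (by
    have h4 := h l
    rw [h2, ← map_mul, mul_inv_eq_iff_eq_mul, mul_assoc, (c.ωc u _).eq, ← mul_assoc, ← mul_assoc,
      mul_left_inj] at h4
    rw [map_mul c.ι l, ← h4, map_mul c.ι _ l])
  exact ⟨lam ⟨_, h3⟩ * u, by rw [map_mul, c.ωl, h2, ← map_mul]⟩

theorem exists_ind {β : MulAut K} (h : β ∈ Subgroup.zpowers δ ⊔ Inn K) :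
    ∃ w : W, (∀ l, w * c.ι l * w⁻¹ = c.ι (β l)) ∧ w ^ m ∈ c.ι.range := by
  rw [sup_comm] at h
  obtain ⟨_, ⟨k, rfl⟩, _, ⟨i, rfl⟩, rfl⟩ := Subgroup.mem_sup_of_normal_left.1 h
  refine ⟨c.ι k * c.d ^ i * c.ω 1, c.act k i 1, ?_⟩
  have := c.normal
  have h1 : ∀ l, (QuotientGroup.mk' c.ι.range) (c.ι l) = 1 := fun l => (QuotientGroup.eq_one_iff _).2 ⟨l, rfl⟩
  refine (QuotientGroup.eq_one_iff _).1 ?_
  change QuotientGroup.mk' c.ι.range _ = 1
  rw [map_one, mul_one, map_pow, map_mul, h1, one_mul, ← map_pow, ← zpow_natCast, ← zpow_mul, mul_comm, zpow_mul,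
    zpow_natCast, c.dm, map_zpow, h1, one_zpow]

theorem bij [Finite W] (hm : ∀ i : ℤ, δ ^ i ∈ Inn K → (m : ℤ) ∣ i) (φ : W →* W) (α : MulAut K)
    (h1 : ∀ k, φ (c.ι k) = c.ι (α k)) (h2 : ∀ u, φ (c.ω u) = c.ω u)
    (h3 : α⁻¹ * δ * α ∈ Subgroup.zpowers δ ⊔ Inn K) : Bijective φ := by
  refine Finite.surjective_iff_bijective.1 ?_
  obtain ⟨w, h4, -⟩ := c.exists_ind h3
  obtain ⟨u, hu⟩ := c.cen hm (w := c.d⁻¹ * φ w) fun l => by
    obtain ⟨l, rfl⟩ := α.surjective l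
    have h5 := congrArg φ (h4 l)
    rw [map_mul, map_mul, map_inv, h1, h1, MulAut.mul_apply, MulAut.mul_apply, MulAut.apply_inv_self,
      ← c.dk] at h5
    calc _ = c.d⁻¹ * (φ w * c.ι (α l) * (φ w)⁻¹) * c.d := by group
      _ = _ := by rw [h5]; group
  have h5 : c.d ∈ φ.range := ⟨w * (c.ω u)⁻¹, by rw [map_mul, map_inv, h2, ← hu]; group⟩
  intro x
  obtain ⟨k, i, v, rfl⟩ := c.gen x
  exact φ.range.mul_mem (φ.range.mul_mem ⟨c.ι (α⁻¹ k), by rw [h1, MulAut.apply_inv_self]⟩ (φ.range.zpow_mem h5 i))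
    ⟨_, h2 v⟩

/-- **extension of automorphisms** -/
theorem exists_aut [Finite W] (hm : ∀ i : ℤ, δ ^ i ∈ Inn K → (m : ℤ) ∣ i) (h0 : δ ^ m = MulAut.conj k0)
    (hr : ∀ z, ∃ u, u ^ m = lam z) (α : MulAut K) (hZ : ∀ z ∈ Subgroup.center K, α z = z)
    (h1 : α * δ * α⁻¹ ∈ Subgroup.zpowers δ ⊔ Inn K) (h2 : α⁻¹ * δ * α ∈ Subgroup.zpowers δ ⊔ Inn K) :
    ∃ φ : MulAut W, (∀ k, φ (c.ι k) = c.ι (α k)) ∧ ∀ u, φ (c.ω u) = c.ω u := by
  obtain ⟨w, h3, k, h4⟩ := c.exists_ind h1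
  have h5 : ∀ l, w * c.ι.comp α.toMonoidHom l * w⁻¹ = c.ι.comp α.toMonoidHom (δ l) := fun l => by
    change w * c.ι (α l) * w⁻¹ = c.ι (α (δ l))
    rw [h3, MulAut.mul_apply, MulAut.mul_apply, MulAut.inv_apply_self]
  have h6 : (α k0)⁻¹ * k ∈ Subgroup.center K := Subgroup.mem_center_iff.2 fun l => by
    obtain ⟨l, rfl⟩ := α.surjective l
    have h7 := conj_zpow_hom h5 m l
    rw [zpow_natCast, zpow_natCast, ← h4, h0] at h7
    change c.ι k * c.ι (α l) * (c.ι k)⁻¹ = c.ι (α (k0 * l * k0⁻¹)) at h7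
    rw [← map_inv, ← map_mul, ← map_mul, c.ιi.eq_iff, map_mul, map_mul, map_inv] at h7
    calc α l * ((α k0)⁻¹ * k) = (α k0)⁻¹ * (α k0 * α l * (α k0)⁻¹) * k := by group
      _ = _ := by rw [← h7]; group
  obtain ⟨u, hu⟩ := hr ⟨_, h6⟩
  obtain ⟨φ, e1, -, e3⟩ := c.lift (c.ι.comp α.toMonoidHom) (w * (c.ω u)⁻¹) (fun l => by
      rw [← h5, mul_assoc w, (c.ωc u _).inv_left.eq]
      group) (by
      rw [(c.ωc u w).symm.inv_right.mul_pow, inv_pow, ← map_pow, hu, c.ωl, ← h4]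
      change c.ι k * (c.ι ((α k0)⁻¹ * k))⁻¹ = c.ι (α k0)
      rw [map_mul, map_inv]
      group) fun z => congrArg c.ι (hZ z z.2)
  exact ⟨MulEquiv.ofBijective φ (c.bij hm φ α e1 e3 h2), e1, e3⟩

/-- the automorphisms which are trivial on `K` and `U` -/
theorem exists_tw [Finite W] (hm : ∀ i : ℤ, δ ^ i ∈ Inn K → (m : ℤ) ∣ i) {ζ : U} (h : ζ ^ m = 1) :
    ∃ φ : MulAut W, (∀ k, φ (c.ι k) = c.ι k) ∧ φ c.d = c.d * c.ω ζ ∧ ∀ u, φ (c.ω u) = c.ω u := by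
  obtain ⟨φ, e1, e2, e3⟩ := c.lift c.ι (c.d * c.ω ζ) (fun l => by
      rw [← c.dk, mul_assoc c.d, (c.ωc ζ _).eq]
      group) (by rw [(c.ωc ζ _).symm.mul_pow, ← map_pow, h, map_one, mul_one, c.dm]) fun _ => rfl
  exact ⟨MulEquiv.ofBijective φ (c.bij hm φ 1 e1 e3 (by
    rw [inv_one, one_mul, mul_one]
    exact Subgroup.mem_sup_left (Subgroup.mem_zpowers δ))), e1, e2, e3⟩

theorem tw_spec (hm : ∀ i : ℤ, δ ^ i ∈ Inn K → (m : ℤ) ∣ i) {φ : MulAut W} (h : ∀ k, φ (c.ι k) = c.ι k) (w : W) :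
    ∃ u, φ w = w * c.ω u := by
  obtain ⟨u, hu⟩ := c.cen hm (w := w⁻¹ * φ w) fun l => by
    obtain ⟨l', h1⟩ := c.conj_mem w l
    have h2 := congrArg φ h1
    rw [map_mul, map_mul, map_inv, h, h, ← h1] at h2
    calc _ = w⁻¹ * (φ w * c.ι l * (φ w)⁻¹) * w := by group
      _ = _ := by rw [h2]; group
  exact ⟨u, by rw [← hu, mul_inv_cancel_left]⟩

theorem tw_ext {φ ψ : MulAut W} (h1 : ∀ k, φ (c.ι k) = ψ (c.ι k)) (h2 : φ c.d = ψ c.d)
    (h3 : ∀ u, φ (c.ω u) = ψ (c.ω u)) : φ = ψ := MulEquiv.ext fun w => by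
  obtain ⟨k, i, u, rfl⟩ := c.gen w
  rw [map_mul, map_mul, map_mul, map_mul, map_zpow, map_zpow, h1, h2, h3]

end Cx

end Cfsg.Agent.BH.Ht
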