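import Cfsg.Agent.BH.Defs
import Cfsg.Agent.KM.A.Red
import Cfsg.Agent.TO.Can1
import Cfsg.Agent.BH.Ht.Cx

/-!
# BH, box HT: block tools (helper79)

* `defl`, `infl` : surjections with kernel of order prime to `p`;
* `nil`, `nilG` : covered blocks with equal degrees;
* `mem_of_ov`, `degH`, `fix_k0`.
-/

set_option autoImplicit false
set_option linter.style.haveILetI false
set_option linter.unusedSectionVars false

namespace Cfsg.Agent.BH.Ht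

open Cfsg Cfsg.Agent Cfsg.Agent.Characters.Core Cfsg.Agent.Blocks Cfsg.Agent.TID.Red Cfsg.Agent.KM.BK Cfsg.Agent.TO
open Cfsg.Agent.H591.Reynolds (IsStab)
open Cfsg.Agent.H592.Transport (tr tr_apply trSet mem_trSet tr_mem_trSet isPBlock_trSet)
open Function

variable {p : ℕ} [hp : Fact p.Prime] {M : Ideal AlgInt} {G Y : Type} [Group G] [Finite G] [Group Y] [Finite Y]
  {B : Set (IrrCharacter G)} {D : Subgroup G}

theorem not_dvd_of_pow {H : Subgroup G} {n : ℕ} (h : ∀ y ∈ H, y ^ n = 1) (hn : ¬ p ∣ n) : ¬ p ∣ Nat.card H := fun h1 => by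
  obtain ⟨x, hx⟩ := exists_prime_orderOf_dvd_card' p h1
  exact hn (hx ▸ orderOf_dvd_of_pow_eq_one (Subtype.ext (h x x.2)))

theorem eq_one_of {H : Type} [Group H] {x : H} {n k : ℕ} (h1 : x ^ n = 1) (h2 : x ^ p ^ k = 1) (hn : ¬ p ∣ n) :
    x = 1 := by
  rw [← orderOf_eq_one_iff]
  exact Nat.eq_one_of_dvd_coprimes (((Nat.Prime.coprime_iff_not_dvd hp.out).2 hn).pow_left k)
    (orderOf_dvd_of_pow_eq_one h2) (orderOf_dvd_of_pow_eq_one h1)

theorem defl (hM : IsPModular p M) (φ : Y →* G) (hφ : Surjective φ) (hU : ¬ p ∣ Nat.card φ.ker)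
    {C : Set (IrrCharacter Y)} (hC : IsPBlock M C) {χ : IrrCharacter Y} (hχ : χ ∈ C)
    (hk : ∀ y, φ y = 1 → (χ : Y → ℂ) y = (χ : Y → ℂ) 1) :
    ∃ c : Set (IrrCharacter G), IsPBlock M c ∧ (∀ ψ : IrrCharacter G, ψ ∈ c ↔ (ψ : G → ℂ) ∘ φ ∈ Fn C) ∧
      (∀ ξ ∈ C, ∃ ψ ∈ c, (ξ : Y → ℂ) = (ψ : G → ℂ) ∘ φ) ∧
      ∀ P, IsDefectGroup p M C P → IsDefectGroup p M c (P.map φ) := by
  let e := QuotientGroup.quotientKerEquivOfSurjective φ hφ
  obtain ⟨c, hc, h1, h2, h3⟩ := TO.exists_defl hM hC φ.ker hU ⟨χ, hχ, rfl⟩ hk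
  have h4 : ∀ ψ : IrrCharacter G, ψ ∈ H649.blkMap e c ↔ (ψ : G → ℂ) ∘ φ ∈ Fn C := fun ψ =>
    H649.mem_blkMap.trans (Cn.coe_mem_Fn.symm.trans (h1 _))
  refine ⟨_, H649.isPBlock_blkMap hc, h4, fun ξ hξ => ?_, fun P hP => ?_⟩
  · obtain ⟨f, hf⟩ := h2 _ ⟨ξ, hξ, rfl⟩
    obtain ⟨ψ, hψ, rfl⟩ := (h1 f).2 (hf ▸ ⟨ξ, hξ, rfl⟩)
    exact ⟨_, H649.irrMap_mem_blkMap.2 hψ, hf.trans (funext fun y => (H649.irrMap_apply' e ψ _).symm)⟩
  · have h5 := H649.isDefectGroup_blkMap (e := e) (h3 P hP)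
    rwa [Subgroup.map_map] at h5

theorem infl (hM : IsPModular p M) (φ : Y →* G) (hφ : Surjective φ) (hU : ¬ p ∣ Nat.card φ.ker)
    (hB : IsPBlock M B) (hD : IsDefectGroup p M B D) :
    ∃ (C : Set (IrrCharacter Y)) (P : Subgroup Y), IsPBlock M C ∧ IsDefectGroup p M C P ∧ P.map φ = D ∧
      (∀ ψ ∈ B, (ψ : G → ℂ) ∘ φ ∈ Fn C) ∧ ∀ ξ ∈ C, ∃ ψ ∈ B, (ξ : Y → ℂ) = (ψ : G → ℂ) ∘ φ := by
  have := Local.isPrime_of_isPModular hM
  obtain ⟨ψ, hψ⟩ := Basic.isPBlock_nonempty hB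
  let χ : IrrCharacter Y := ⟨_, isIrr_comp φ hφ ψ.2⟩
  have hC : IsPBlock M (blockOf M (χ : Y → ℂ)) := ⟨χ, rfl⟩
  obtain ⟨c, hc, h1, h2, h3⟩ := defl hM φ hφ hU hC (Basic.mem_blockOf_self χ) fun y hy =>
    congrArg (ψ : G → ℂ) (hy.trans (map_one φ).symm)
  obtain rfl : c = B := Basic.isPBlock_eq_of_mem hc hB ((h1 ψ).2 ⟨χ, Basic.mem_blockOf_self χ, rfl⟩) hψ
  obtain ⟨E, hE⟩ := H592.Defect.exists_defectGroup p hM hC
  obtain ⟨x, hx⟩ := conj_defect hM hB (h3 E hE) hD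
  obtain ⟨y, rfl⟩ := hφ x
  refine ⟨_, _, hC, Basic.isDefectGroup_conj hE y, ?_, fun ψ h => (h1 ψ).1 h, h2⟩
  rw [← hx, Subgroup.map_map, Subgroup.map_map]
  congr 1
  ext g
  simp

theorem single (hM : IsPModular p M) (h : ¬ p ∣ Nat.card G) (ε : IrrCharacter G) : IsPBlock M {ε} := by
  have := Local.isPrime_of_isPModular hM
  have hb : IsPBlock M (blockOf M (ε : G → ℂ)) := ⟨ε, rfl⟩
  obtain ⟨E, hE⟩ := H592.Defect.exists_defectGroup p hM hb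
  obtain rfl : E = ⊥ := (Subgroup.eq_bot_iff_forall _).2 fun x hx =>
    KM.eq_one_of_pg (U := ⊤) (H592.Defect.isPGroup_of_isDefectGroup hE) (by rwa [Subgroup.card_top]) hx trivial
  obtain ⟨θ, h1, -⟩ := exists_of_defect_bot hM hb hE
  have h2 := Basic.mem_blockOf_self (M := M) ε
  rw [h1] at hb h2
  rwa [h2]

theorem eq_of_deg (h : ∀ χ ∈ B, ∀ ψ ∈ B, (χ : G → ℂ) 1 = (ψ : G → ℂ) 1) : EQ p B := fun χ hχ ψ hψ => by
  unfold nu charDegree
  rw [h χ hχ ψ hψ]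

/-- equal degrees: trivial inertial quotient -/
theorem nil {θ : G → ℂ} (h : Can p M B D θ) (hd : ∀ χ ∈ B, ∀ ψ ∈ B, (χ : G → ℂ) 1 = (ψ : G → ℂ) 1) :
    In D θ ≤ Ce D := fun x hx => by
  have := Fintype.ofFinite G
  have := h.prime
  obtain ⟨χ, hχ⟩ := Basic.isPBlock_nonempty h.hb
  have h1 := (S4889.result p M h.hM B h.hb D h.hD (ab_iff.1 h.comm) (eq_iff_hz.1 (eq_of_deg hd))).1
    ⟨charDegree (χ : G → ℂ), fun ψ hψ => by unfold charDegree; rw [hd ψ hψ χ hχ]⟩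
  exact (S4687.result p M h.hM B D _ h.hmax h.comm).1 h1 x ((h.mem_In_iff x).1 hx).1 ((h.mem_In_iff x).1 hx).2

theorem cov_eq (hM : IsPModular p M) (hB : IsPBlock M B) {N : Subgroup G} [N.Normal] {β : Set (IrrCharacter N)}
    (hβ : IsPBlock M β) (hT : IsStab β ⊤) (hc : CovH N.subtype B β) : cov B N = β := by
  letI := Fintype.ofFinite G
  letI := Fintype.ofFinite N
  obtain ⟨χ, hχ, θ, hθβ, hθ⟩ := hc
  ext ψ
  constructor
  · rintro ⟨χ', hχ', h2⟩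
    obtain ⟨g, θ', hθ', h3⟩ := S0964.result p M hM N B hB _ hβ χ hχ θ hθβ ((ov_subtype_iff N _ _).1 hθ) χ' hχ' ψ
      ((ov_subtype_iff N _ _).1 h2)
    exact (hT g).1 (Subgroup.mem_top g) θ' hθ' ψ h3
  · intro hψ
    obtain ⟨χ', hχ', h2⟩ := S4432.result p M hM N B hB _ hβ ⟨χ, hχ, θ, hθβ, (ov_subtype_iff N _ _).1 hθ⟩ ψ hψ
    exact ⟨χ', hχ', (ov_subtype_iff N _ _).2 h2⟩

theorem nilS (RZ : BoxRZ p M) (RT : BoxRT p M) (hM : IsPModular p M) (km : KMa p) (hB : IsPBlock M B)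
    (hD : IsDefectGroup p M B D) (hz : EQ p B) (N : Subgroup G) [N.Normal] (hc : IsPBlock M (cov B N))
    (hs : IsStab (cov B N) ⊤) (ha : Ab (D ⊓ N)) (ih : IHz p M (Nat.card (D ⊓ N : Subgroup G) * N.index))
    (hd : ∀ χ ∈ cov B N, ∀ ψ ∈ cov B N, (χ : N → ℂ) 1 = (ψ : N → ℂ) 1) : D ≤ Ce (D ⊓ N) := by
  obtain ⟨θ, r, h1⟩ := (RT hM G N B D hB hD hc hs ha).1
  have h2 : ∀ n ∈ In (D ⊓ N) θ, n ∈ N → ∀ z ∈ D ⊓ N, z * n = n * z := fun n hn hN z hz =>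
    congrArg Subtype.val (nil r.can hd (x := ⟨n, hN⟩) ⟨fun x => hn.1 x, fun x => hn.2 x⟩ ⟨z, hz.2⟩ hz)
  have h3 := RZ hM km G N B D hB hD hz hc hs ih θ r
  intro d hd z hz
  obtain ⟨n, hn, c, hc, rfl⟩ := Subgroup.mem_sup_of_normal_left.1 (h3 hd)
  rw [← mul_assoc, h2 n ((mul_mem_cancel_right (Subgroup.mem_inf.1 hc).1).1 (h1 hd)) hn z hz, mul_assoc,
    hc.2 z ⟨hz, fun t ht => (h2 t ht.1 ht.2 z hz).symm⟩, mul_assoc]

/-- **the defect group centralizes its intersection with `N`** -/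
theorem nilG (RZ : BoxRZ p M) (RT : BoxRT p M) (hM : IsPModular p M) (km : KMa p) (hB : IsPBlock M B)
    (hD : IsDefectGroup p M B D) (hz : EQ p B) (N : Subgroup G) [hN : N.Normal] (ha : Ab (D ⊓ N))
    (ih : IHz p M (Nat.card (D ⊓ N : Subgroup G) * N.index))
    (hd : ∀ χ ∈ cov B N, ∀ ψ ∈ cov B N, (χ : N → ℂ) 1 = (ψ : N → ℂ) 1) : D ≤ Ce (D ⊓ N) := by
  have := Local.isPrime_of_isPModular hM
  letI := Fintype.ofFinite G
  letI := Fintype.ofFinite N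
  obtain ⟨χ, hχ⟩ := Basic.isPBlock_nonempty hB
  obtain ⟨θ, hθ⟩ := exists_ov N.subtype χ.2
  have hβ : IsPBlock M (blockOf M (θ : N → ℂ)) := ⟨θ, rfl⟩
  have hθβ : θ ∈ blockOf M (θ : N → ℂ) := Basic.mem_blockOf_self θ
  generalize blockOf M (θ : N → ℂ) = β at hβ hθβ
  obtain ⟨T, hT⟩ := exists_isStab hβ
  have hNT := hT.le hβ
  obtain ⟨B', hB', hcov, hi⟩ := FR_down hM hβ hT hNT hB ⟨χ, hχ, θ, hθβ, hθ⟩
  obtain ⟨D', hD'⟩ := H592.Defect.exists_defectGroup p hM hB'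
  obtain ⟨x, rfl⟩ := conj_defect hM hB (FR_defect hM hβ hT hNT hB' hcov hi hD') hD
  let e := Subgroup.subgroupOfEquivOfLe hNT
  have h1 : IsStab (trSet e β) (⊤ : Subgroup T) := isStab_iff.2 fun t => ⟨fun _ =>
    (stabH_src e (ι := Subgroup.inclusion hNT) (fun _ => rfl) β t).2
      ((stabH_comp (j := T.subtype) T.subtype_injective (ι' := N.subtype) (fun _ => rfl) β t).1
        ((isStab_iff.1 hT t).1 t.2)), fun _ => trivial⟩
  have h2 := cov_eq hM hB' (isPBlock_trSet e hβ) h1 ((covH_src_iff e (ι := Subgroup.inclusion hNT) fun _ => rfl).2 hcov)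
  have h3 : ∀ ψ ∈ β, ψ ∈ cov B N := fun ψ hψ => by
    obtain ⟨χ', hχ', h4⟩ := S4432.result p M hM N B hB _ hβ ⟨χ, hχ, θ, hθβ, (ov_subtype_iff N _ _).1 hθ⟩ ψ hψ
    exact ⟨χ', hχ', (ov_subtype_iff N _ _).2 h4⟩
  let j : T →* G := (MulAut.conj x).toMonoidHom.comp T.subtype
  have hj : Injective j := (MulAut.conj x).injective.comp T.subtype_injective
  have h4 : (D' ⊓ N.subgroupOf T).map j = (D'.map T.subtype).map (MulAut.conj x).toMonoidHom ⊓ N := by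
    rw [Subgroup.map_map]
    ext y
    constructor
    · rintro ⟨t, ht, rfl⟩
      exact ⟨⟨t, ht.1, rfl⟩, hN.conj_mem _ ht.2 x⟩
    · rintro ⟨⟨t, ht, rfl⟩, h5⟩
      exact ⟨t, ⟨ht, (TO.Cov.conj_mem_iff N x t).1 h5⟩, rfl⟩
  rw [← h4] at ha ih ⊢
  rw [Subgroup.card_map_of_injective hj] at ih
  have h5 := nilS RZ RT hM km hB' hD' (eq_of_cnt (fun d => (FR_cnt hM hβ hT hNT hB' hcov hi d).symm) hz)
    (N.subgroupOf T) (h2 ▸ isPBlock_trSet e hβ) (h2 ▸ h1) (ha.of_map hj) (fun H _ _ h => ih H (h.trans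
      (Nat.mul_le_mul_left _ (Nat.le_of_dvd (Nat.pos_of_ne_zero Subgroup.index_ne_zero_of_finite)
        (Subgroup.relIndex_dvd_index_of_le hNT))))) (by
      rw [h2]
      intro a ha b hb
      have h6 := hd _ (h3 _ (mem_trSet.1 ha)) _ (h3 _ (mem_trSet.1 hb))
      rwa [tr_apply, tr_apply, map_one] at h6)
  rw [Subgroup.map_map]
  rintro _ ⟨d, hd, rfl⟩ _ ⟨z, hz, rfl⟩
  exact ((map_mul j _ _).symm.trans (congrArg j (h5 hd z hz))).trans (map_mul j _ _)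

theorem mem_of_ov (hM : IsPModular p M) {K : Type} [Group K] [Finite K] {ι : K →* G} (hi : Injective ι)
    (hn : ι.range.Normal) {β : Set (IrrCharacter K)} (hβ : IsPBlock M β) (hs : ∀ x, StabH ι β x) (hB : IsPBlock M B)
    (hc : CovH ι B β) {χ : IrrCharacter G} (hχ : χ ∈ B) {θ : IrrCharacter K} (h : Ov ι (χ : G → ℂ) (θ : K → ℂ)) :
    θ ∈ β := by
  have := Local.isPrime_of_isPModular hM
  let e := (MonoidHom.ofInjective hi).symm
  have he : ∀ k, ι.range.subtype k = ι (e k) := fun k => (MonoidHom.apply_ofInjective_symm hi k).symm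
  have h1 := cov_eq hM hB (isPBlock_trSet e hβ)
    (isStab_iff.2 fun g => ⟨fun _ => (stabH_src e he β g).2 (hs g), fun _ => trivial⟩) ((covH_src_iff e he).2 hc)
  rw [← tr_mem_trSet (e := e), ← h1]
  exact ⟨χ, hχ, (ov_src_iff e he _ θ).2 h⟩

omit [Finite G] in
theorem cyc_of {N : Subgroup G} [N.Normal] {g : G} (hg : N ⊔ Subgroup.zpowers g = ⊤) : IsCyclic (G ⧸ N) := ⟨⟨g, fun x => by
  obtain ⟨x, rfl⟩ := QuotientGroup.mk_surjective x
  obtain ⟨n, hn, _, ⟨k, rfl⟩, rfl⟩ := Subgroup.mem_sup_of_normal_left.1 (hg.ge (Subgroup.mem_top x))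
  exact ⟨k, by simp [(QuotientGroup.eq_one_iff n).2 hn]⟩⟩⟩

theorem degH0 {K : Type} [Group K] [Finite K] {κ : K →* G} (hi : Injective κ) {d : G} {δ : MulAut K}
    (hd : ∀ k, d * κ k * d⁻¹ = κ (δ k)) (hg : ∀ g, ∃ k, ∃ i : ℤ, g = κ k * d ^ i) {ψ : IrrCharacter G}
    {χ : IrrCharacter K} (h : Ov κ (ψ : G → ℂ) (χ : K → ℂ)) :
    (ψ : G → ℂ) 1 = ((FixF (χ : K → ℂ)).relIndex (Subgroup.zpowers δ) : ℂ) * (χ : K → ℂ) 1 := by
  have hn : κ.range.Normal := ⟨by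
    rintro _ ⟨l, rfl⟩ g
    obtain ⟨k, i, rfl⟩ := hg g
    exact ⟨k * (δ ^ i) l * k⁻¹, by rw [map_mul, map_mul, map_inv, ← conj_zpow_hom hd]; group⟩⟩
  let e := (MonoidHom.ofInjective hi).symm
  have he : ∀ k, κ.range.subtype k = κ (e k) := fun k => (MonoidHom.apply_ofInjective_symm hi k).symm
  have ht : κ.range ⊔ Subgroup.zpowers d = ⊤ := top_le_iff.1 fun g _ => by
    obtain ⟨k, i, rfl⟩ := hg g
    exact Subgroup.mul_mem_sup ⟨k, rfl⟩ ⟨i, rfl⟩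
  have hc := cyc_of ht
  let T := OddOrderCharacters.PF9.CliffGen.inertia κ.range (tr e χ : κ.range → ℂ)
  have h1 := KM.A.deg_cyc κ.range hc ((ov_src_iff e he _ χ).2 h) T fun _ => OddOrderCharacters.PF9.CliffGen.mem_inertia'
  have hT : κ.range ≤ T := OddOrderCharacters.PF9.CliffGen.le_inertia (isIrr_isClassFunction (tr e χ).2)
  have := H666.Clif.normal_of_le κ.range hc hT
  have h2 : T.comap (zpowersHom G d) = (FixF (χ : K → ℂ)).comap (zpowersHom _ δ) := by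
    ext i
    have h3 : ∀ n : κ.range, e ⟨d ^ i.toAdd * n * (d ^ i.toAdd)⁻¹, hn.conj_mem n n.2 _⟩ = (δ ^ i.toAdd) (e n) :=
      fun n => hi (by rw [← he, ← conj_zpow_hom hd, ← he]; rfl)
    refine OddOrderCharacters.PF9.CliffGen.mem_inertia'.trans ⟨fun h4 => ⟨fun _ => Iff.rfl, fun k => ?_⟩, fun h4 n => ?_⟩
    · obtain ⟨n, rfl⟩ := e.surjective k
      exact (congrArg (χ : K → ℂ) (h3 n)).symm.trans (h4 n)
    · exact (congrArg (χ : K → ℂ) (h3 n)).trans (h4.2 _)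
  have h3 : T.index = (FixF (χ : K → ℂ)).relIndex (Subgroup.zpowers δ) := by
    have h4 : Subgroup.zpowers d ⊔ T = ⊤ := top_le_iff.1 (ht.ge.trans (sup_le (hT.trans le_sup_right) le_sup_left))
    rw [← Subgroup.relIndex_top_right, ← h4, Subgroup.relIndex_sup_right, ← Subgroup.range_zpowersHom,
      ← Subgroup.range_zpowersHom, ← Subgroup.index_comap, ← Subgroup.index_comap, h2]
  rw [Basic.irr_one_eq_charDegree ψ.2, Basic.irr_one_eq_charDegree χ.2, h1, h3, charDegree_tr, Nat.cast_mul]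

/-- the degree of a character over `χ` -/
theorem degH {K : Type} [Group K] [Finite K] {κ : K →* G} (hi : Injective κ) {d : G} {δ : MulAut K}
    (hd : ∀ k, d * κ k * d⁻¹ = κ (δ k)) (hg : ∀ g, ∃ k, ∃ i : ℤ, ∃ z ∈ Subgroup.center G, g = κ k * d ^ i * z)
    {ψ : IrrCharacter G} {χ : IrrCharacter K} (h : Ov κ (ψ : G → ℂ) (χ : K → ℂ)) :
    (ψ : G → ℂ) 1 = ((FixF (χ : K → ℂ)).relIndex (Subgroup.zpowers δ) : ℂ) * (χ : K → ℂ) 1 := by
  letI := Fintype.ofFinite G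
  let H : Subgroup G :=
    { carrier := {g | ∃ k, ∃ i : ℤ, g = κ k * d ^ i}
      one_mem' := ⟨1, 0, by simp⟩
      mul_mem' := by
        rintro _ _ ⟨k, i, rfl⟩ ⟨l, j, rfl⟩
        exact ⟨k * (δ ^ i) l, i + j, by rw [map_mul, ← conj_zpow_hom hd]; group⟩
      inv_mem' := by
        rintro _ ⟨k, i, rfl⟩
        exact ⟨(δ ^ (-i)) k⁻¹, -i, by rw [← conj_zpow_hom hd, map_inv]; group⟩ }
  have h1 : H ⊔ Subgroup.center G = ⊤ := top_le_iff.1 fun g _ => by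
    obtain ⟨k, i, z, hz, rfl⟩ := hg g
    exact Subgroup.mul_mem_sup ⟨k, i, rfl⟩ hz
  exact degH0 (κ := κ.codRestrict H fun k => ⟨k, 0, by simp⟩) (fun a b h => hi (congrArg Subtype.val h))
    (d := ⟨d, 1, 1, by simp⟩) (fun k => Subtype.ext (hd k)) (fun g => by
      obtain ⟨k, i, h2⟩ := g.2
      exact ⟨k, i, Subtype.ext h2⟩) (ψ := ⟨_, H691.Back.isIrr_restrict H h1 ψ.2⟩) (Ov.congr (fun _ => rfl) h)

open SemidirectProduct in
/-- an automorphism which fixes a character that is faithful on the centre -/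
theorem fix_k0 {δ : MulAut G} {χ : IrrCharacter G} (h : (χ : G → ℂ) ∘ δ = χ)
    (hf : ∀ z ∈ Subgroup.center G, (χ : G → ℂ) z = (χ : G → ℂ) 1 → z = 1) (hδ : ∀ z ∈ Subgroup.center G, δ z = z)
    {m : ℕ} {k0 : G} (h0 : δ ^ m = MulAut.conj k0) : δ k0 = k0 := by
  let S := G ⋊[(Subgroup.zpowers δ).subtype] Subgroup.zpowers δ
  have : Finite S := Finite.of_equiv _ (SemidirectProduct.equivProd (φ := (Subgroup.zpowers δ).subtype)).symm
  let t : S := inr ⟨δ, Subgroup.mem_zpowers δ⟩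
  have ht : ∀ k : G, t * inl k * t⁻¹ = inl (δ k) := fun k => by
    rw [← map_inv, ← inl_aut]
    rfl
  have hS : ∀ x : S, ∃ k, ∃ i : ℤ, x = inl k * t ^ i := fun x => by
    obtain ⟨i, hi⟩ := x.right.2
    exact ⟨x.left, i, by rw [← map_zpow, show (⟨δ, Subgroup.mem_zpowers δ⟩ : Subgroup.zpowers δ) ^ i = x.right from
      Subtype.ext hi, inl_left_mul_inr_right]⟩
  have hcj : ∀ (k : G) (i : ℤ) (l : G), inl k * t ^ i * inl l * (inl k * t ^ i)⁻¹ = inl (k * (δ ^ i) l * k⁻¹) :=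
    fun k i l => by rw [map_mul, map_mul, map_inv, ← conj_zpow_hom ht]; group
  have hn : (inl : G →* S).range.Normal := ⟨by
    rintro _ ⟨l, rfl⟩ g
    obtain ⟨k, i, rfl⟩ := hS g
    exact ⟨_, (hcj k i l).symm⟩⟩
  let e := (MonoidHom.ofInjective (inl_injective (φ := (Subgroup.zpowers δ).subtype))).symm
  have he : ∀ k : (inl : G →* S).range, (k : S) = inl (e k) := fun k => (MonoidHom.apply_ofInjective_symm _ k).symm
  have h1 : ∀ (i : ℤ) (l : G), (χ : G → ℂ) ((δ ^ i) l) = (χ : G → ℂ) l := fun i =>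
    ((FixF (χ : G → ℂ)).zpow_mem (x := δ) ⟨fun _ => Iff.rfl, congrFun h⟩ i).2
  obtain ⟨ξ, hξ, h2⟩ := S0886.result (inl : G →* S).range (cyc_of (g := t) (top_le_iff.1 fun g _ => by
    obtain ⟨k, i, rfl⟩ := hS g
    exact Subgroup.mul_mem_sup ⟨k, rfl⟩ ⟨i, rfl⟩)) _ (tr e χ).2 fun g n => by
      obtain ⟨k, i, rfl⟩ := hS g
      have h3 : e ⟨inl k * t ^ i * (n : S) * (inl k * t ^ i)⁻¹, hn.conj_mem n n.2 _⟩ = k * (δ ^ i) (e n) * k⁻¹ :=
        inl_injective (by rw [← he, ← hcj, ← he])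
      rw [tr_apply, tr_apply, h3, isIrr_isClassFunction χ.2, h1]
  have h3 : ∀ k, ξ (inl k) = (χ : G → ℂ) k := fun k =>
    (h2 ⟨_, k, rfl⟩).trans (congrArg (χ : G → ℂ) (inl_injective (he _).symm))
  let c : S := (inl k0)⁻¹ * t ^ m
  have hc : ∀ k, Commute c (inl k) := fun k => by
    have h4 := conj_zpow_hom ht m k
    rw [zpow_natCast, zpow_natCast, h0, MulAut.conj_apply, map_mul, map_mul, map_inv, mul_inv_eq_iff_eq_mul] at h4
    change (inl k0)⁻¹ * t ^ m * inl k = inl k * ((inl k0)⁻¹ * t ^ m)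
    rw [mul_assoc, h4]
    group
  have h4 : ξ c ≠ 0 := by
    let H := Subgroup.centralizer ({c} : Set S)
    have hH : IsIrrCharacter H fun x => ξ x := TO.Cov.irr_of_comp
      ((inl : G →* S).codRestrict H fun k => Subgroup.mem_centralizer_singleton_iff.2 (hc k).symm)
      (isCharacter_comp' H.subtype (isIrr_isCharacter hξ)) (by
        have h5 := χ.2
        rwa [← funext h3] at h5)
    have hcH : c ∈ H := Subgroup.mem_centralizer_singleton_iff.2 rfl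
    have h5 := apply_mul_central ⟨_, hH⟩ (z := ⟨c, hcH⟩) (Subgroup.mem_center_iff.2 fun g =>
      Subtype.ext (Subgroup.mem_centralizer_singleton_iff.1 g.2)) ⟨c, hcH⟩⁻¹
    intro h6
    rw [inv_mul_cancel] at h5
    change _ = ξ c / _ * _ at h5
    rw [h6, zero_div, zero_mul] at h5
    exact isIrr_apply_one_ne_zero hH h5
  have h5 : (δ k0)⁻¹ * k0 ∈ Subgroup.center G := Subgroup.mem_center_iff.2 fun g => by
    obtain ⟨g, rfl⟩ := δ.surjective g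
    have h6 : (δ * δ ^ m) g = (δ ^ m * δ) g := by rw [← pow_succ, ← pow_succ']
    rw [h0, MulAut.mul_apply, MulAut.mul_apply, MulAut.conj_apply, MulAut.conj_apply, map_mul, map_mul,
      map_inv] at h6
    calc δ g * ((δ k0)⁻¹ * k0) = (δ k0)⁻¹ * (δ k0 * δ g * (δ k0)⁻¹) * k0 := by group
      _ = _ := by rw [h6]; group
  have h6 : (inl ((δ k0)⁻¹ * k0) : S) ∈ Subgroup.center S := Subgroup.mem_center_iff.2 fun g => by
    obtain ⟨k, i, rfl⟩ := hS g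
    rw [← mul_inv_eq_iff_eq_mul, hcj, zpow_fix (hδ _ h5), Subgroup.mem_center_iff.1 h5 k, mul_inv_cancel_right]
  have h7 : t * c * t⁻¹ = c * inl ((δ k0)⁻¹ * k0) := by
    rw [(hc _).eq, map_mul, map_inv, ← ht]
    change t * ((inl k0)⁻¹ * t ^ m) * t⁻¹ = _ * ((inl k0)⁻¹ * t ^ m)
    group
  have h8 := apply_mul_central ⟨ξ, hξ⟩ h6 c
  change ξ _ = ξ _ / ξ 1 * ξ c at h8
  rw [← h7, isIrr_isClassFunction hξ, eq_comm, mul_eq_right₀ h4, div_eq_one_iff_eq (isIrr_apply_one_ne_zero hξ), h3,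
    ← map_one (inl : G →* S), h3] at h8
  exact inv_mul_eq_one.1 (hf _ h5 h8)

end Cfsg.Agent.BH.Ht
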