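import Cfsg.Agent.BH.Ht.Cx
import Mathlib.Analysis.SpecialFunctions.Complex.CircleAddChar
import Mathlib.RingTheory.RootsOfUnity.Complex
import Mathlib.Analysis.Complex.Polynomial.Basic

/-!
# BH, box HT: the overgroup (helper79)

`Ovg K δ lam n c X Y` : `Y → G` is onto with an abelian kernel of exponent dividing `n`, the image of `Y` in `X` is the
stabiliser of a linear character of that kernel, `X` is generated by this image and an element `d` which induces `δ`.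
-/

set_option autoImplicit false

namespace Cfsg.Agent.BH.Ht

open Cfsg Function SemidirectProduct

/-- a semidirect product with an identification -/
structure Am {K W H : Type} [Group K] [Group W] [Group H] (act : H →* MulAut W) (ι : K →* W) (s : K →* H)
    (X : Type) [Group X] where
  jW : W →* X
  jH : H →* X
  eq : ∀ k, jW (ι k) = jH (s k)
  cj : ∀ h w, jH h * jW w * (jH h)⁻¹ = jW (act h w)
  ker : ∀ w h, jW w * jH h = 1 → ∃ k, w = (ι k)⁻¹ ∧ h = s k
  gen : ∀ x, ∃ w h, x = jW w * jH h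

theorem exists_am {K W H : Type} [Group K] [Group W] [Group H] [Finite W] [Finite H] (act : H →* MulAut W)
    (ι : K →* W) (s : K →* H) (h1 : ∀ k w, act (s k) w = ι k * w * (ι k)⁻¹)
    (h2 : ∀ h k, ∃ k', act h (ι k) = ι k' ∧ h * s k * h⁻¹ = s k') :
    ∃ (X : Type) (_ : Group X) (_ : Finite X), Nonempty (Am act ι s X) := by
  let e : K →* W ⋊[act] H := MonoidHom.mk' (fun k => ⟨(ι k)⁻¹, s k⟩) fun k l => by
    ext
    · change (ι (k * l))⁻¹ = (ι k)⁻¹ * act (s k) (ι l)⁻¹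
      rw [h1, map_mul]
      group
    · exact map_mul s k l
  have hn : e.range.Normal := ⟨by
    rintro _ ⟨k, rfl⟩ x
    obtain ⟨k', h3, h4⟩ := h2 x.right k
    refine ⟨k', ?_⟩
    rw [eq_mul_inv_iff_mul_eq]
    ext
    · change (ι k')⁻¹ * act (s k') x.left = x.left * act x.right (ι k)⁻¹
      rw [h1, map_inv, h3]
      group
    · change s k' * x.right = x.right * s k
      rw [← h4, inv_mul_cancel_right]⟩
  have : Finite (W ⋊[act] H) := Finite.of_equiv _ (SemidirectProduct.equivProd (φ := act)).symm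
  let q := QuotientGroup.mk' e.range
  refine ⟨(W ⋊[act] H) ⧸ e.range, inferInstance, inferInstance, ⟨⟨q.comp inl, q.comp inr, fun k => ?_, fun h w => ?_,
    fun w h h3 => ?_, fun x => ?_⟩⟩⟩
  · have h3 : q (e k) = 1 := (QuotientGroup.eq_one_iff _).2 ⟨k, rfl⟩
    have h4 : inl (ι k) * e k = inr (s k) := by
      ext
      · change ι k * act 1 (ι k)⁻¹ = 1
        simp
      · exact one_mul _
    change q (inl (ι k)) = q (inr (s k))
    rw [← h4, map_mul, h3, mul_one]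
  · change q (inr h) * q (inl w) * (q (inr h))⁻¹ = q (inl (act h w))
    rw [inl_aut, map_mul, map_mul, map_inv, map_inv]
  · change q (inl w) * q (inr h) = 1 at h3
    rw [← map_mul] at h3
    obtain ⟨k, hk⟩ := (QuotientGroup.eq_one_iff _).1 h3
    refine ⟨k, ?_, ?_⟩
    · have h4 := congrArg SemidirectProduct.left hk
      simpa [e] using h4.symm
    · have h4 := congrArg SemidirectProduct.right hk
      simpa [e] using h4.symm
  · obtain ⟨y, rfl⟩ := QuotientGroup.mk'_surjective e.range x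
    exact ⟨y.left, y.right, by
      change q y = q (inl y.left) * q (inr y.right)
      rw [← map_mul, inl_left_mul_inr_right]⟩

/-- the overgroup -/
structure Ovg {G : Type} [Group G] (K : Subgroup G) [K.Normal] (δ : MulAut K) (lam : Subgroup.center K →* ℂˣ)
    (n c : ℕ) (X Y : Type) [Group X] [Group Y] where
  f : Y →* G
  σ : Y →* X
  μ : Y →* ℂˣ
  s : K →* Y
  d : X
  N : Subgroup X
  surj : Surjective f
  fs : ∀ k, f (s k) = k
  μs : ∀ k, μ (s k) = 1
  cj : ∀ y k, y * s k * y⁻¹ = s (MulAut.conjNormal (f y) k)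
  kf : ∀ y, f y = 1 → y ^ n = 1
  kσ : ∀ y, σ y = 1 → y ^ n = 1 ∧ ∃ z : Subgroup.center K, f y = ((z : K) : G) ∧ μ y * lam z = 1
  inj : ∀ y, σ y = 1 → f y = 1 → y = 1
  nA : ∀ x a, f a = 1 → ∃ a', f a' = 1 ∧ σ a' = x * σ a * x⁻¹
  stab : ∀ x, (∀ a a', f a = 1 → f a' = 1 → σ a' = x * σ a * x⁻¹ → μ a' = μ a) → x ∈ σ.range
  dk : ∀ k, d * σ (s k) * d⁻¹ = σ (s (δ k))
  gen : ∀ x, ∃ (i : ℤ) (y : Y), x = d ^ i * σ y
  nN : N.Normal
  memN : ∀ x ∈ N, ∃ k, ∃ i : ℤ, ∃ z ∈ Subgroup.center X, z ^ n = 1 ∧ x = σ (s k) * d ^ i * z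
  sN : ∀ k, σ (s k) ∈ N
  dN : d ∈ N
  dn : ∃ k, d ^ n = σ (s k)
  idx : N.index ≤ c

variable {G : Type} [Group G] {K : Subgroup G} [K.Normal] {U : Type} [CommGroup U] {δ : MulAut K} {m : ℕ} {k0 : K}
  {lam : Subgroup.center K →* U} {W : Type} [Group W] (c : Cx δ m k0 lam W)

/-- the lifts of the elements of `G` -/
def Gh : Subgroup (G × MulAut W) where
  carrier := {x | (∀ k : K, x.2 (c.ι k) = c.ι (MulAut.conjNormal x.1 k)) ∧ ∀ u, x.2 (c.ω u) = c.ω u}
  one_mem' := ⟨fun k => by simp, fun _ => rfl⟩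
  mul_mem' := fun {x y} hx hy => ⟨fun k => by
    rw [Prod.snd_mul, Prod.fst_mul, map_mul, MulAut.mul_apply, MulAut.mul_apply, hy.1, hx.1], fun u => by
    rw [Prod.snd_mul, MulAut.mul_apply, hy.2, hx.2]⟩
  inv_mem' := fun {x} hx => ⟨fun k => x.2.injective (by
    rw [hx.1, Prod.snd_inv, Prod.fst_inv, map_inv, MulAut.apply_inv_self, MulAut.apply_inv_self]), fun u =>
      x.2.injective (by rw [hx.2, Prod.snd_inv, MulAut.apply_inv_self])⟩

/-- the projection -/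
def pr : Gh c →* G := (MonoidHom.fst _ _).comp (Gh c).subtype

/-- the action -/
def ac : Gh c →* MulAut W := (MonoidHom.snd _ _).comp (Gh c).subtype

/-- the section over `K` -/
def sec : K →* Gh c := (K.subtype.prod (MulAut.conj.comp c.ι)).codRestrict _ fun k =>
  ⟨fun l => by
    change c.ι k * c.ι l * (c.ι k)⁻¹ = _
    rw [← map_inv, ← map_mul, ← map_mul]
    rfl, fun u => by
    change c.ι k * c.ω u * (c.ι k)⁻¹ = _
    rw [← (c.ωc u _).eq, mul_inv_cancel_right]⟩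

/-- the section over the centre -/
def zh : Subgroup.center G →* Gh c := ((MonoidHom.inl _ _).comp (Subgroup.center G).subtype).codRestrict _ fun z =>
  ⟨fun l => congrArg c.ι (Subtype.ext (by
    change (l : G) = z * l * (z : G)⁻¹
    rw [← Subgroup.mem_center_iff.1 z.2, mul_inv_cancel_right])), fun _ => rfl⟩

theorem ac_ι (h : Gh c) (k : K) : ac c h (c.ι k) = c.ι (MulAut.conjNormal (pr c h) k) := h.2.1 k

theorem ac_ω (h : Gh c) (u : U) : ac c h (c.ω u) = c.ω u := h.2.2 u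

theorem gh_ext {h h' : Gh c} (h1 : pr c h = pr c h') (h2 : ac c h = ac c h') : h = h' :=
  Subtype.ext (Prod.ext h1 h2)

theorem sec_cj (h : Gh c) (k : K) : h * sec c k * h⁻¹ = sec c (MulAut.conjNormal (pr c h) k) := by
  refine gh_ext c ?_ (MulEquiv.ext fun w => ?_)
  · rw [map_mul, map_mul, map_inv]
    rfl
  · rw [map_mul, map_mul, map_inv]
    change ac c h (c.ι k * (ac c h)⁻¹ w * (c.ι k)⁻¹) = c.ι _ * w * (c.ι _)⁻¹
    rw [map_mul, map_mul, map_inv, MulAut.apply_inv_self, ac_ι]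

theorem zh_comm (z : Subgroup.center G) (h : Gh c) : Commute (zh c z) h :=
  gh_ext c (by rw [map_mul, map_mul]; exact (Subgroup.mem_center_iff.1 z.2 _).symm)
    (by rw [map_mul, map_mul]; exact Commute.one_left _)

theorem triv {h : Gh c} (h1 : pr c h = 1) (k : K) : ac c h (c.ι k) = c.ι k := by
  rw [ac_ι, h1, map_one, MulAut.one_apply]

theorem ker_spec (hm : ∀ i : ℤ, δ ^ i ∈ Inn K → (m : ℤ) ∣ i) {h : Gh c} (h1 : pr c h = 1) :
    ∃ u, u ^ m = 1 ∧ ac c h c.d = c.d * c.ω u := by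
  obtain ⟨u, hu⟩ := c.tw_spec hm (triv c h1) c.d
  refine ⟨u, c.ωi ?_, hu⟩
  have h2 := congrArg (ac c h) c.dm
  rwa [map_pow, hu, triv c h1, (c.ωc u _).symm.mul_pow, c.dm, mul_eq_left, ← map_pow, ← map_one c.ω] at h2

theorem ker_ext {h h' : Gh c} (h1 : pr c h = 1) (h2 : pr c h' = 1) (h3 : ac c h c.d = ac c h' c.d) : h = h' :=
  gh_ext c (h1.trans h2.symm) (c.tw_ext (fun k => (triv c h1 k).trans (triv c h2 k).symm) h3
    fun u => (ac_ω c h u).trans (ac_ω c h' u).symm)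

theorem ker_pow (hm : ∀ i : ℤ, δ ^ i ∈ Inn K → (m : ℤ) ∣ i) {h : Gh c} (h1 : pr c h = 1) : h ^ m = 1 := by
  obtain ⟨u, h2, h3⟩ := ker_spec c hm h1
  have h4 : ∀ j : ℕ, ac c (h ^ j) c.d = c.d * c.ω (u ^ j) := fun j => by
    induction j with
    | zero => simp
    | succ j ih => rw [pow_succ', map_mul, MulAut.mul_apply, ih, map_mul, h3, ac_ω, mul_assoc, ← map_mul, pow_succ']
  refine ker_ext c (by rw [map_pow, h1, one_pow]) (map_one _) ?_
  rw [h4, h2, map_one, map_one, mul_one, MulAut.one_apply]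

theorem card_ker [Finite U] (hm : ∀ i : ℤ, δ ^ i ∈ Inn K → (m : ℤ) ∣ i) :
    Nat.card (pr c).ker ≤ Nat.card {u : U // u ^ m = 1} := by
  choose a h1 h2 using fun h : (pr c).ker => ker_spec c hm h.2
  refine Nat.card_le_card_of_injective (fun h => (⟨a h, h1 h⟩ : {u : U // u ^ m = 1})) fun h h' e => ?_
  exact Subtype.ext (ker_ext c h.2 h'.2 (by rw [h2, h2, show a h = a h' from congrArg Subtype.val e]))

theorem index_le {H : Type} [Group H] [Finite H] (π : H →* G) (hπ : Surjective π) (V : Subgroup H)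
    {L : Subgroup G} (h : L ≤ V.map π) : V.index ≤ Nat.card π.ker * L.index := by
  have := Finite.of_surjective π hπ
  have h1 : Nat.card L ≤ Nat.card V :=
    (Subgroup.card_le_of_le h).trans (Nat.card_le_card_of_surjective _ (π.subgroupMap_surjective V))
  have h2 := π.ker.card_mul_index
  rw [Subgroup.index_ker, MonoidHom.range_eq_top.2 hπ, Subgroup.card_top, ← L.index_mul_card, ← V.index_mul_card,
    ← mul_assoc] at h2
  refine Nat.le_of_mul_le_mul_right ?_ (Nat.card_pos (α := L))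
  rw [h2]
  exact Nat.mul_le_mul_left _ h1

include c in
theorem exists_ovg' [Finite G] [Finite U] [Finite W] (hm : ∀ i : ℤ, δ ^ i ∈ Inn K → (m : ℤ) ∣ i)
    (h0 : δ ^ m = MulAut.conj k0) (hr : ∀ z, ∃ u, u ^ m = lam z)
    (hZ : ∀ z ∈ Subgroup.center K, (z : G) ∈ Subgroup.center G)
    (hA : ∀ g : G, MulAut.conjNormal g * δ * (MulAut.conjNormal g)⁻¹ ∈ Subgroup.zpowers δ ⊔ Inn K)
    (ν : U →* ℂˣ) (hν : Injective ν) {ζ : U} (hζ : orderOf ζ = m) {n : ℕ} (hn : ∀ u : U, u ^ n = 1) (hmn : m ∣ n)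
    (hz : ∀ z : Subgroup.center G, z ^ n = 1) (hc : Nat.card {u : U // u ^ m = 1} ≤ m) :
    ∃ (X Y : Type) (_ : Group X) (_ : Group Y) (_ : Finite X) (_ : Finite Y), Nonempty (Ovg K δ (ν.comp lam) n
      (m * (K ⊔ Subgroup.center G).index) X Y) := by
  have hs : Surjective (pr c) := fun g => by
    obtain ⟨φ, h1, h2⟩ := c.exists_aut hm h0 hr (MulAut.conjNormal g) (fun z hz => Subtype.ext (by
      rw [MulAut.conjNormal_apply, Subgroup.mem_center_iff.1 (hZ z hz), mul_inv_cancel_right])) (hA g) (by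
      have h1 := hA g⁻¹
      rwa [map_inv, inv_inv] at h1)
    exact ⟨⟨(g, φ), h1, h2⟩, rfl⟩
  obtain ⟨X, _, _, ⟨a⟩⟩ := exists_am (ac c) c.ι (sec c) (fun _ _ => rfl)
    fun h k => ⟨_, ac_ι c h k, sec_cj c h k⟩
  have c1 : ∀ u x, Commute (a.jW (c.ω u)) x := fun u x => by
    obtain ⟨w, h, rfl⟩ := a.gen x
    refine ((c.ωc u w).map _).mul_right ?_
    have h1 := a.cj h (c.ω u)
    rw [ac_ω, mul_inv_eq_iff_eq_mul] at h1
    exact h1.symm
  have c2 : ∀ z x, Commute (a.jH (zh c z)) x := fun z x => by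
    obtain ⟨w, h, rfl⟩ := a.gen x
    refine Commute.mul_right ?_ ((zh_comm c z h).map _)
    have h1 := a.cj (zh c z) w
    rwa [mul_inv_eq_iff_eq_mul] at h1
  let σ : Gh c × U →* X := a.jH.noncommCoprod (a.jW.comp c.ω) fun h u => (c1 u _).symm
  have e1 : ∀ h u, σ (h, u) = a.jW (c.ω u) * a.jH h := fun h u => (c1 u _).symm
  have e2 : ∀ k, σ (sec c k, 1) = a.jW (c.ι k) := fun k => by rw [e1, map_one, map_one, one_mul, a.eq]
  have k1 : ∀ y, σ y = 1 → ∃ z : Subgroup.center K, y = (sec c z, (lam z)⁻¹) := by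
    rintro ⟨h, u⟩ h1
    obtain ⟨k, h2, rfl⟩ := a.ker _ _ ((e1 h u).symm.trans h1)
    have h3 : k ∈ Subgroup.center K := Subgroup.mem_center_iff.2 fun l => c.ιi (by
      rw [map_mul, map_mul, ← inv_inv (c.ι k), ← h2]
      exact (c.ωc u _).inv_left.symm)
    exact ⟨⟨k, h3⟩, Prod.ext rfl (c.ωi (by rw [map_inv, c.ωl]; exact h2))⟩
  have t1 : ∀ (w : W) (h : Gh c) (u v : U), ac c h w = w * c.ω v →
      σ (h, u * v⁻¹) = a.jW w * σ (h, u) * (a.jW w)⁻¹ := fun w h u v h1 => by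
    have h2 := a.cj h w
    rw [h1, mul_inv_eq_iff_eq_mul, map_mul, ← (c1 v _).eq] at h2
    rw [e1, e1, eq_mul_inv_iff_mul_eq, mul_assoc, h2, map_mul, map_mul, map_inv, map_inv, ← mul_assoc (a.jW w),
      ← (c1 u _).eq]
    group
  have g1 : ∀ x, ∃ (i : ℤ) (y : Gh c × U), x = a.jW c.d ^ i * σ y := fun x => by
    obtain ⟨w, h, rfl⟩ := a.gen x
    obtain ⟨k, i, u, rfl⟩ := c.gen w
    refine ⟨i, (sec c ((δ ^ i)⁻¹ k), 1) * (h, u), ?_⟩
    have h1 := conj_zpow_hom c.dk i ((δ ^ i)⁻¹ k)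
    rw [MulAut.apply_inv_self, mul_inv_eq_iff_eq_mul] at h1
    rw [map_mul σ, e2, e1, ← map_zpow, ← mul_assoc, ← mul_assoc, ← map_mul, ← map_mul, h1]
  have nW : a.jW.range.Normal := ⟨by
    rintro _ ⟨w, rfl⟩ x
    obtain ⟨v, h, rfl⟩ := a.gen x
    exact ⟨v * ac c h w * v⁻¹, by rw [map_mul, map_mul, map_inv, ← a.cj]; group⟩⟩
  have nZ : (a.jH.comp (zh c)).range.Normal := ⟨by
    rintro _ ⟨z, rfl⟩ x
    exact ⟨z, by rw [MonoidHom.comp_apply, ← (c2 z x).eq, mul_inv_cancel_right]⟩⟩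
  let N := a.jW.range ⊔ (a.jH.comp (zh c)).range
  refine ⟨X, Gh c × U, inferInstance, inferInstance, inferInstance, inferInstance, ⟨
    { f := (pr c).comp (MonoidHom.fst _ _)
      σ := σ
      μ := ν.comp (MonoidHom.snd _ _)
      s := (MonoidHom.inl _ _).comp (sec c)
      d := a.jW c.d
      N := N
      surj := hs.comp Prod.fst_surjective
      fs := fun _ => rfl
      μs := fun _ => map_one ν
      cj := fun y k => Prod.ext (sec_cj c y.1 k) (by simp)
      kf := fun y hy => ?_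
      kσ := fun y hy => ?_
      inj := fun y hy h1 => ?_
      nA := fun x y hy => ?_
      stab := fun x hx => ?_
      dk := fun k => ?_
      gen := g1
      nN := inferInstance
      memN := fun x hx => ?_
      sN := fun k => Subgroup.mem_sup_left ⟨_, (e2 k).symm⟩
      dN := Subgroup.mem_sup_left ⟨_, rfl⟩
      dn := ?_
      idx := ?_ }⟩⟩
  · obtain ⟨r, rfl⟩ := hmn
    exact Prod.ext (by rw [Prod.pow_fst, pow_mul, ker_pow c hm (h := y.1) hy, one_pow]; rfl) (hn _)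
  · obtain ⟨z, rfl⟩ := k1 y hy
    refine ⟨Prod.ext ?_ (hn _), z, rfl, ?_⟩
    · have h1 : (z : K) ^ n = 1 := Subtype.ext (show ((z : K) : G) ^ n = 1 from congrArg Subtype.val (hz ⟨_, hZ _ z.2⟩))
      rw [Prod.pow_fst, ← map_pow, h1, map_one]
      rfl
    · change ν (lam z)⁻¹ * ν (lam z) = 1
      rw [map_inv, inv_mul_cancel]
  · obtain ⟨z, rfl⟩ := k1 y hy
    have h2 : z = 1 := Subtype.ext (Subtype.ext h1)
    rw [h2]
    simp
  · obtain ⟨w, h, rfl⟩ := a.gen x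
    obtain ⟨h', u⟩ := y
    have h1 : pr c (h * h' * h⁻¹) = 1 := by
      rw [map_mul, map_mul, show pr c h' = 1 from hy, mul_one, map_inv, mul_inv_cancel]
    obtain ⟨v, hv⟩ := c.tw_spec hm (triv c h1) w
    refine ⟨(h * h' * h⁻¹, u * v⁻¹), h1, ?_⟩
    rw [t1 w _ u v hv, e1, e1, map_mul, map_mul, map_inv, mul_assoc (a.jW w) (a.jH h), ← mul_assoc (a.jH h),
      ← (c1 u (a.jH h)).eq]
    group
  · obtain ⟨i, y, rfl⟩ := g1 x
    obtain ⟨φ, h1, h2, h3⟩ := c.exists_tw hm (ζ := ζ) (by rw [← hζ, pow_orderOf_eq_one])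
    let h : Gh c := ⟨(1, φ), fun k => by rw [map_one, MulAut.one_apply]; exact h1 k, h3⟩
    have h4 : ac c h (c.d ^ i) = c.d ^ i * c.ω (ζ ^ i) := by
      rw [map_zpow, map_zpow, ← (c.ωc ζ _).symm.mul_zpow]
      exact congrArg (· ^ i) h2
    have h5 := hx (y⁻¹ * (h, 1) * y) (h, 1 * (ζ ^ i)⁻¹) (by
      rw [map_mul, map_mul, show (pr c).comp (MonoidHom.fst _ _) (h, (1 : U)) = 1 from rfl, mul_one, map_inv,
        inv_mul_cancel]) rfl (by
      rw [t1 _ h 1 _ h4, map_mul σ, map_mul σ, map_inv, map_zpow]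
      group)
    rw [map_mul, map_mul, map_inv, inv_mul_cancel_comm] at h5
    have h6 : (1 : U) * (ζ ^ i)⁻¹ = 1 := hν h5
    rw [one_mul, inv_eq_one, ← orderOf_dvd_iff_zpow_eq_one, hζ] at h6
    obtain ⟨k, hk⟩ := c.zpow_eq h6
    rw [← map_zpow, hk, ← e2]
    exact σ.range.mul_mem ⟨_, rfl⟩ ⟨_, rfl⟩
  · change _ * σ (sec c k, 1) * _ = σ (sec c (δ k), 1)
    rw [e2, e2, ← c.dk, map_mul, map_mul, map_inv]
  · obtain ⟨_, ⟨w, rfl⟩, _, ⟨z, rfl⟩, rfl⟩ := Subgroup.mem_sup_of_normal_left.1 hx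
    obtain ⟨k, i, u, rfl⟩ := c.gen w
    refine ⟨k, i, a.jW (c.ω u) * a.jH (zh c z), Subgroup.mem_center_iff.2 fun y =>
      ((c1 u y).mul_left (c2 z y)).symm, ?_, ?_⟩
    · rw [(c1 u _).mul_pow, ← map_pow, ← map_pow, ← map_pow, ← map_pow, hn, hz]
      simp
    · change _ = σ (sec c k, 1) * _ * _
      rw [e2, map_mul, map_mul, map_zpow, mul_assoc]
      rfl
  · obtain ⟨k, hk⟩ := c.zpow_eq (i := n) (Int.natCast_dvd_natCast.2 hmn)
    exact ⟨k, by rw [← map_pow, ← zpow_natCast, hk]; exact (e2 k).symm⟩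
  · have h1 : a.jH.range ⊔ N = ⊤ := top_le_iff.1 fun x _ => by
      obtain ⟨w, h, rfl⟩ := a.gen x
      exact mul_mem (Subgroup.mem_sup_right (Subgroup.mem_sup_left ⟨w, rfl⟩)) (Subgroup.mem_sup_left ⟨h, rfl⟩)
    rw [← Subgroup.relIndex_top_right, ← h1, Subgroup.relIndex_sup_right, ← Subgroup.index_comap]
    refine (index_le (pr c) hs _ (L := K ⊔ Subgroup.center G) (sup_le (fun k hk => ?_) fun z hz => ?_)).trans
      (Nat.mul_le_mul_right _ ((card_ker c hm).trans hc))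
    · exact ⟨sec c ⟨k, hk⟩, Subgroup.mem_sup_left ⟨_, a.eq _⟩, rfl⟩
    · exact ⟨zh c ⟨z, hz⟩, Subgroup.mem_sup_right ⟨_, rfl⟩, rfl⟩

/-- **the overgroup exists** -/
theorem exists_ovg [Finite G] (lam : Subgroup.center K →* ℂˣ) (hl : Injective lam) (hm0 : m ≠ 0)
    (hm : ∀ i : ℤ, δ ^ i ∈ Inn K → (m : ℤ) ∣ i) (h0 : δ ^ m = MulAut.conj k0) (h1 : δ k0 = k0)
    (hδ : ∀ z ∈ Subgroup.center K, δ z = z) (hZ : ∀ z ∈ Subgroup.center K, (z : G) ∈ Subgroup.center G)
    (hA : ∀ g : G, MulAut.conjNormal g * δ * (MulAut.conjNormal g)⁻¹ ∈ Subgroup.zpowers δ ⊔ Inn K) :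
    ∃ (X Y : Type) (_ : Group X) (_ : Group Y) (_ : Finite X) (_ : Finite Y), Nonempty (Ovg K δ lam
      (m * Nat.card (Subgroup.center G)) (m * (K ⊔ Subgroup.center G).index) X Y) := by
  set n := m * Nat.card (Subgroup.center G) with hn
  have : NeZero m := ⟨hm0⟩
  have : NeZero n := ⟨mul_ne_zero hm0 Nat.card_pos.ne'⟩
  have h2 : ∀ z, lam z ^ Nat.card (Subgroup.center G) = 1 := fun z => by
    have h3 : z ^ Nat.card (Subgroup.center G) = 1 := Subtype.ext (Subtype.ext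
      (show ((z : K) : G) ^ _ = 1 from congrArg Subtype.val (pow_card_eq_one' (x := (⟨_, hZ _ z.2⟩ : Subgroup.center G)))))
    rw [← map_pow, h3, map_one]
  let lam' : Subgroup.center K →* rootsOfUnity n ℂ := lam.codRestrict _ fun z => by
    rw [mem_rootsOfUnity, hn, mul_comm, pow_mul, h2, one_pow]
  obtain ⟨W, _, ⟨c⟩⟩ := exists_cx (lam := lam') hm0 h0 h1 hδ fun a b h => hl (congrArg Subtype.val h)
  have := c.finite hm0
  obtain ⟨ζ, hζ⟩ := (Complex.isPrimitiveRoot_exp m hm0).isUnit hm0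
  have h3 : IsPrimitiveRoot ζ m := IsPrimitiveRoot.coe_units_iff.1 (hζ ▸ Complex.isPrimitiveRoot_exp m hm0)
  refine exists_ovg' c hm h0 (fun z => ?_) hZ hA (rootsOfUnity n ℂ).subtype Subtype.val_injective
    (ζ := ⟨ζ, by rw [mem_rootsOfUnity, hn, pow_mul, h3.pow_eq_one, one_pow]⟩)
    (by rw [Subgroup.orderOf_mk, ← h3.eq_orderOf]) (fun u => Subtype.ext u.2) (Dvd.intro _ rfl)
    (fun z => by rw [hn, mul_comm, pow_mul, pow_card_eq_one', one_pow]) ?_
  · obtain ⟨x, hx⟩ := IsAlgClosed.exists_pow_nat_eq (lam z : ℂ) (Nat.pos_of_ne_zero hm0)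
    have h4 : x ≠ 0 := fun h => (lam z).ne_zero (by rw [← hx, h, zero_pow hm0])
    have h5 : Units.mk0 x h4 ^ m = lam z := Units.ext hx
    exact ⟨⟨Units.mk0 x h4, by rw [mem_rootsOfUnity, hn, pow_mul, h5, h2]⟩, Subtype.ext h5⟩
  · refine le_trans (Nat.card_le_card_of_injective
      (fun u => (⟨u.1.1, congrArg Subtype.val u.2⟩ : rootsOfUnity m ℂ)) fun u v h => ?_) (card_rootsOfUnity ℂ m)
    exact Subtype.ext (Subtype.ext (congrArg (fun x : rootsOfUnity m ℂ => x.1) h))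

end Cfsg.Agent.BH.Ht
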