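import Cfsg.Agent.BH.Ht.Blk
import Cfsg.Agent.BH.Ht.Ovg
import Cfsg.Agent.BH.Cmp.Main

/-!
# BH, box HT (helper79)
-/

set_option autoImplicit false
set_option linter.style.haveILetI false
set_option linter.unusedSectionVars false

namespace Cfsg.Agent.BH

open Cfsg Cfsg.Agent Cfsg.Agent.Characters.Core Cfsg.Agent.Blocks Cfsg.Agent.TID.Red Cfsg.Agent.KM.BK Cfsg.Agent.TO
open Cfsg.Agent.H591.Reynolds (IsStab)
open Cfsg.Agent.H666.Clif (tl tl_apply)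
open Function

variable {p : ℕ} [hp : Fact p.Prime] {M : Ideal AlgInt}

namespace Ht

variable {G X Y : Type} [Group G] [Finite G] [Group X] [Finite X] [Group Y] [Finite Y] {B : Set (IrrCharacter G)}
  {D K : Subgroup G} [K.Normal] {δ : MulAut K} {lam : Subgroup.center K →* ℂˣ} {n c : ℕ} (o : Ovg K δ lam n c X Y)

/-- the block of the stabiliser -/
theorem Ovg.exists_T (hM : IsPModular p M) (hB : IsPBlock M B) (hD : IsDefectGroup p M B D) (hn : ¬ p ∣ n)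
    {χ : IrrCharacter G} (hχ : χ ∈ B)
    (hl : ∀ z : Subgroup.center K, (χ : G → ℂ) (z : K) = (χ : G → ℂ) 1 * lam z) :
    ∃ (C : Set (IrrCharacter o.σ.range)) (P : Subgroup Y), IsPBlock M C ∧
      IsDefectGroup p M C (P.map o.σ.rangeRestrict) ∧ IsPGroup p P ∧ P.map o.f = D ∧
      ∀ ψ ∈ C, ∃ ξ ∈ B, ∀ y, (ψ : o.σ.range → ℂ) (o.σ.rangeRestrict y) = o.μ y * (ξ : G → ℂ) (o.f y) := by
  have := Local.isPrime_of_isPModular hM
  obtain ⟨C, P, hC, hP, h1, h2, h3⟩ := infl hM o.f o.surj (not_dvd_of_pow o.kf hn) hB hD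
  obtain ⟨χ', h4, h5⟩ := h2 χ hχ
  obtain ⟨C', hC', h6, -, h7⟩ := defl hM o.σ.rangeRestrict o.σ.rangeRestrict_surjective
    (not_dvd_of_pow (fun y hy => (o.kσ y (congrArg Subtype.val hy)).1) hn)
    (H666.Clif.isPBlock_tl this o.μ hC) (χ := tl o.μ χ') ⟨χ', h4, rfl⟩ fun y hy => by
      obtain ⟨-, z, h6, h7⟩ := o.kσ y (congrArg Subtype.val hy)
      rw [tl_apply, tl_apply, h5, comp_apply, comp_apply, h6, hl, map_one, map_one, mul_left_comm, ← Units.val_mul, h7,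
        mul_comm]
  refine ⟨C', P, hC', h7 P (TO.Cov.defect_tl o.μ hP), H592.Defect.isPGroup_of_isDefectGroup hP, h1, fun ψ hψ => ?_⟩
  obtain ⟨_, ⟨ξ, h8, rfl⟩, h9⟩ := (h6 ψ).1 hψ
  obtain ⟨ξ', h10, h11⟩ := h3 ξ h8
  exact ⟨ξ', h10, fun y => (congrFun h9 y).symm.trans (by rw [tl_apply, h11, comp_apply])⟩

omit [Finite G] [Finite X] [Finite Y] in
theorem Ovg.ext {a a' : Y} (h1 : o.σ a = o.σ a') (h2 : o.f a = o.f a') : a = a' :=
  mul_inv_eq_one.1 (o.inj _ (by rw [map_mul, map_inv, h1, mul_inv_cancel]) (by rw [map_mul, map_inv, h2, mul_inv_cancel]))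

/-- the block of the overgroup -/
theorem Ovg.exists_X (hM : IsPModular p M) (hB : IsPBlock M B) (hD : IsDefectGroup p M B D) (hz : EQ p B)
    (hn : ¬ p ∣ n) {χ : IrrCharacter G} (hχ : χ ∈ B)
    (hl : ∀ z : Subgroup.center K, (χ : G → ℂ) (z : K) = (χ : G → ℂ) 1 * lam z) :
    ∃ (C : Set (IrrCharacter X)) (P : Subgroup Y), IsPBlock M C ∧ IsDefectGroup p M C (P.map o.σ) ∧ EQ p C ∧
      IsPGroup p P ∧ P.map o.f = D ∧ CovH (o.σ.comp o.s) C (cov B K) := by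
  have := Local.isPrime_of_isPModular hM
  obtain ⟨C, P, hC, hP, h1, h2, h3⟩ := o.exists_T hM hB hD hn hχ hl
  let lin : (o.f.ker →* ℂˣ) → IrrCharacter o.f.ker := fun l => tl l ⟨_, Basic.isIrrCharacter_one⟩
  have hlin : ∀ l a, (lin l : o.f.ker → ℂ) a = l a := fun l a => mul_one _
  let ε := lin (o.μ.comp o.f.ker.subtype)
  have hi : Injective (o.σ.comp o.f.ker.subtype) := fun a a' h => Subtype.ext (o.ext h (a.2.trans a'.2.symm))
  obtain ⟨ψ, hψ⟩ := Basic.isPBlock_nonempty hC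
  obtain ⟨ξ, hξ, h4⟩ := h3 ψ hψ
  obtain ⟨C', h5, h6, h7⟩ := FRH hM (κ := o.σ.rangeRestrict.comp o.f.ker.subtype) (τ := o.σ.range.subtype)
    (ι := o.σ.comp o.f.ker.subtype) (fun _ => rfl) hi Subtype.val_injective ⟨by
      rintro _ ⟨a, rfl⟩ x
      obtain ⟨a', h5, h6⟩ := o.nA x a a.2
      exact ⟨⟨a', h5⟩, h6⟩⟩ (single hM (not_dvd_of_pow o.kf hn) ε) (fun x => by
      rw [Subgroup.range_subtype]
      constructor
      · rintro ⟨y, rfl⟩ _ rfl θ' h5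
        refine Subtype.ext (funext fun a => ?_)
        rw [h5 a ⟨y * a * y⁻¹, Subgroup.Normal.conj_mem inferInstance _ a.2 y⟩ (by simp), hlin, hlin]
        change ((o.μ (y * a * y⁻¹) : ℂˣ) : ℂ) = o.μ a
        rw [map_mul, map_mul, map_inv, mul_inv_cancel_comm]
      · intro h5
        choose g g1 g2 using fun a : o.f.ker => o.nA x a a.2
        have g3 : ∀ a b, g (a * b) = g a * g b := fun a b =>
          o.ext (by rw [map_mul, g2, g2, g2, Subgroup.coe_mul, map_mul]; group) (by rw [map_mul, g1, g1, g1, mul_one])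
        have h6 := h5 ε rfl (lin (MonoidHom.mk' (fun a => o.μ (g a)) fun a b => by rw [g3, map_mul])) fun a a' h6 => by
          rw [hlin, hlin]
          exact congrArg (fun y => ((o.μ y : ℂˣ) : ℂ)) (o.ext ((g2 a).trans h6.symm) ((g1 a).trans a'.2.symm))
        refine o.stab x fun a a' h7 h8 h9 => Units.ext ?_
        have h10 := congrFun (congrArg Subtype.val h6) ⟨a, h7⟩
        rw [hlin, hlin] at h10
        rw [o.ext (h9.trans (g2 ⟨a, h7⟩).symm) (h8.trans (g1 _).symm)]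
        exact h10) hC ⟨ψ, hψ, ε, rfl, by
      letI := Fintype.ofFinite o.f.ker
      have h5 : (fun a : o.f.ker => (ψ : o.σ.range → ℂ) ((o.σ.rangeRestrict.comp o.f.ker.subtype) a)) =
          (ξ : G → ℂ) 1 • (ε : o.f.ker → ℂ) := funext fun a => by
        rw [Pi.smul_apply, hlin, smul_eq_mul, mul_comm, ← show o.f a = 1 from a.2]
        exact h4 a
      rw [ov_iff, h5, classInner_smul_left, classInner_irr_self ε.2, mul_one]
      exact isIrr_apply_one_ne_zero ξ.2⟩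
  refine ⟨C', P, h5.2.1, ?_, eq_of_cnt h6 fun a ha b hb => ?_, h1, h2, ?_⟩
  · have h8 := h7 _ hP
    rwa [Subgroup.map_map] at h8
  · obtain ⟨a', ha', h8⟩ := h3 a ha
    obtain ⟨b', hb', h9⟩ := h3 b hb
    have h10 := h8 1
    have h11 := h9 1
    simp only [map_one, Units.val_one, one_mul] at h10 h11
    have h12 := hz a' ha' b' hb'
    unfold nu charDegree at h12 ⊢
    rwa [h10, h11]
  · obtain ⟨Ψ, h8, h9⟩ := h5.exists_ov hM Subtype.val_injective hψ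
    obtain ⟨θ, hθ⟩ := exists_ov K.subtype ξ.2
    exact ⟨Ψ, h8, θ, ⟨ξ, hξ, hθ⟩, Ov.trans (ι₁ := o.σ.rangeRestrict.comp o.s) (fun _ => rfl) (isIrr_isCharacter Ψ.2) ψ.2
      θ.2 h9 (hθ.congr fun k => by rw [MonoidHom.comp_apply, h4, o.μs, o.fs, Units.val_one, one_mul]; rfl)⟩

omit [Finite G] [Finite X] [Finite Y] in
theorem Ovg.inj_s (hl : Injective lam) : Injective (o.σ.comp o.s) := (injective_iff_map_eq_one _).2 fun k hk => by
  obtain ⟨-, z, h1, h2⟩ := o.kσ _ hk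
  rw [o.μs, one_mul] at h2
  rw [o.fs, (injective_iff_map_eq_one _).1 hl z h2] at h1
  exact Subtype.ext h1

omit [Finite G] [Finite X] [Finite Y] in
theorem Ovg.act (i : ℤ) (y : Y) (k : K) : o.d ^ i * o.σ y * o.σ.comp o.s k * (o.d ^ i * o.σ y)⁻¹ =
    o.σ.comp o.s ((δ ^ i) (MulAut.conjNormal (o.f y) k)) := by
  rw [← conj_zpow_hom (f := o.σ.comp o.s) o.dk, MonoidHom.comp_apply, MonoidHom.comp_apply, ← o.cj, map_mul, map_mul,
    map_inv]
  group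

omit [Finite G] [Finite X] [Finite Y] in
theorem Ovg.normal : (o.σ.comp o.s).range.Normal := ⟨by
  rintro _ ⟨k, rfl⟩ x
  obtain ⟨i, y, rfl⟩ := o.gen x
  exact ⟨_, (o.act i y k).symm⟩⟩

omit [Finite G] [Finite X] [Finite Y] in
theorem Ovg.eq_s (hn : ¬ p ∣ n) {P : Subgroup Y} (hP : IsPGroup p P) {y : Y} (hy : y ∈ P) (h : o.f y ∈ K) :
    y = o.s ⟨_, h⟩ := by
  obtain ⟨j, hj⟩ := hP ⟨y, hy⟩
  have h1 : y ^ p ^ j = 1 := congrArg Subtype.val hj
  have h2 : (⟨_, h⟩ : K) ^ p ^ j = 1 := Subtype.ext (by rw [Subgroup.coe_pow, ← map_pow, h1, map_one]; rfl)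
  have h3 : Commute y (o.s ⟨_, h⟩) := by
    have h4 := o.cj y ⟨_, h⟩
    rwa [show MulAut.conjNormal (o.f y) (⟨_, h⟩ : K) = ⟨_, h⟩ from Subtype.ext (mul_inv_cancel_right _ _),
      mul_inv_eq_iff_eq_mul] at h4
  refine mul_inv_eq_one.1 (eq_one_of (k := j) (o.kf _ (by rw [map_mul, map_inv, o.fs, mul_inv_cancel])) ?_ hn)
  rw [h3.inv_right.mul_pow, h1, inv_pow, ← map_pow, h2, map_one, inv_one, mul_one]

omit [Finite G] [Finite X] [Finite Y] in
theorem Ovg.inf_eq (hn : ¬ p ∣ n) {P : Subgroup Y} (hP : IsPGroup p P) :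
    P.map o.σ ⊓ o.N = ((P.map o.f ⊓ K).subgroupOf K).map (o.σ.comp o.s) := by
  ext x
  constructor
  · rintro ⟨⟨y, hy, rfl⟩, h1⟩
    have := o.normal
    obtain ⟨k, i, z, h2, h3, h4⟩ := o.memN _ h1
    obtain ⟨l, hl⟩ := o.dn
    obtain ⟨j, hj⟩ := hP ⟨y, hy⟩
    let q := QuotientGroup.mk' (o.σ.comp o.s).range
    have h5 : ∀ k, q (o.σ (o.s k)) = 1 := fun k => (QuotientGroup.eq_one_iff _).2 ⟨k, rfl⟩
    have h6 : q (o.σ y) = 1 := eq_one_of (k := j) (by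
      rw [h4, mul_assoc, map_mul, h5, one_mul, ← map_pow,
        (show Commute (o.d ^ i) z from Subgroup.mem_center_iff.1 h2 _).mul_pow, h3, mul_one, ← zpow_natCast, ← zpow_mul,
        mul_comm, zpow_mul, zpow_natCast, hl, map_zpow, h5, one_zpow])
      (by rw [← map_pow, ← map_pow, show y ^ p ^ j = 1 from congrArg Subtype.val hj, map_one, map_one]) hn
    obtain ⟨k', h7⟩ := (QuotientGroup.eq_one_iff _).1 h6
    obtain ⟨-, w, h8, -⟩ := o.kσ ((o.s k')⁻¹ * y) (by rw [map_mul, map_inv, ← h7]; exact inv_mul_cancel _)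
    rw [map_mul, map_inv, o.fs, inv_mul_eq_iff_eq_mul] at h8
    have h9 : o.f y ∈ K := h8 ▸ K.mul_mem k'.2 (w : K).2
    exact ⟨⟨_, h9⟩, ⟨⟨y, hy, rfl⟩, h9⟩, congrArg o.σ (o.eq_s hn hP hy h9).symm⟩
  · rintro ⟨⟨_, hk⟩, ⟨⟨y, hy, rfl⟩, -⟩, rfl⟩
    exact ⟨⟨y, hy, congrArg o.σ (o.eq_s hn hP hy hk)⟩, o.sN _⟩

include o in
theorem Ovg.main (RZ : BoxRZ p M) (RT : BoxRT p M) (m : Min p M B D) (hK : K ≠ ⊤) (hn : ¬ p ∣ n) (hi : Injective lam)
    {χ : IrrCharacter G} (hχ : χ ∈ B) (hl : ∀ z : Subgroup.center K, (χ : G → ℂ) (z : K) = (χ : G → ℂ) 1 * lam z)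
    (hδ : δ ∈ Stab (cov B K)) {e : ℂ}
    (he : ∀ χ ∈ Fn (cov B K), ((FixF χ).relIndex (Subgroup.zpowers δ) : ℂ) * χ 1 = e)
    (hc : Nat.card ((D ⊓ K).subgroupOf K) * c < (Subgroup.center G).index) : D ≤ Ce (D ⊓ K) := by
  obtain ⟨C, P, hC, hP, hz, h1, rfl, h2⟩ := o.exists_X m.hM m.hB m.hD m.hz hn hχ hl
  have := o.nN
  have hj := o.inj_s hi
  have h3 : ∀ x, StabH (o.σ.comp o.s) (cov B K) x := fun x θ hθ θ' h3 => by
    obtain ⟨i, y, rfl⟩ := o.gen x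
    obtain ⟨θ1, h4, h5⟩ := (((Stab (cov B K)).zpow_mem hδ i) θ).2 ⟨θ, hθ, rfl⟩
    refine (m.stab K (o.f y)).1 trivial θ1 h4 θ' fun k => ?_
    rw [h3 k _ (o.act i y k).symm, h5]
    rfl
  have h4 : ∀ ψ ∈ cov C o.N, (ψ : o.N → ℂ) 1 = e := by
    rintro ψ ⟨Ψ, h4, h5⟩
    let κ : K →* o.N := (o.σ.comp o.s).codRestrict o.N o.sN
    obtain ⟨θ, hθ⟩ := exists_ov κ ψ.2
    have h6 := mem_of_ov m.hM hj o.normal (m.blk K) h3 hC h2 h4
      (Ov.trans (ι₁ := κ) (fun _ => rfl) (isIrr_isCharacter Ψ.2) ψ.2 θ.2 h5 hθ)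
    refine (degH (κ := κ) (fun a b h => hj (congrArg Subtype.val h)) (d := ⟨o.d, o.dN⟩) (δ := δ)
      (fun k => Subtype.ext (o.dk k)) (fun g => ?_) hθ).trans (he _ ⟨θ, h6, rfl⟩)
    obtain ⟨k, i, z, h7, -, h8⟩ := o.memN _ g.2
    have h9 : z ∈ o.N := (mul_mem_cancel_left (mul_mem (o.sN k) (zpow_mem o.dN i))).1 (h8 ▸ g.2)
    exact ⟨k, i, ⟨z, h9⟩, Subgroup.mem_center_iff.2 fun a => Subtype.ext (Subgroup.mem_center_iff.1 h7 a),
      Subtype.ext h8⟩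
  have h5 := nilG RZ RT m.hM m.km hC hP hz o.N
    (by rw [o.inf_eq hn h1]; exact ((m.ab K hK).comap K.subtype_injective).map _)
    (fun H _ _ h => m.ih H (Or.inl (h.trans_lt (by
      rw [o.inf_eq hn h1, Subgroup.card_map_of_injective hj]
      exact (Nat.mul_le_mul_left _ o.idx).trans_lt hc)))) fun a ha b hb => (h4 a ha).trans (h4 b hb).symm
  rw [o.inf_eq hn h1] at h5
  rintro _ ⟨y, hy, rfl⟩ x hx
  have h6 := h5 ⟨y, hy, rfl⟩ _ ⟨⟨x, hx.2⟩, hx, rfl⟩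
  have h7 := o.act 0 y ⟨x, hx.2⟩
  rw [zpow_zero, zpow_zero, one_mul, ← h6, mul_inv_cancel_right, hj.eq_iff] at h7
  exact mul_inv_eq_iff_eq_mul.1 (congrArg Subtype.val h7).symm |>.symm

theorem ord_spec {A : Type} [Group A] [Finite A] (I : Subgroup A) [I.Normal] (a : A) :
    I.relIndex (Subgroup.zpowers a) ≠ 0 ∧ I.relIndex (Subgroup.zpowers a) ∣ orderOf a ∧
      (∀ i : ℤ, a ^ i ∈ I → (I.relIndex (Subgroup.zpowers a) : ℤ) ∣ i) ∧ a ^ I.relIndex (Subgroup.zpowers a) ∈ I := by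
  have h : I.relIndex (Subgroup.zpowers a) = orderOf (QuotientGroup.mk' I a) := by
    conv_lhs => rw [← QuotientGroup.ker_mk' I, Subgroup.relIndex_ker, MonoidHom.map_zpowers, Nat.card_zpowers]
  rw [h]
  exact ⟨(orderOf_pos _).ne', orderOf_map_dvd _ _, fun i hi => orderOf_dvd_iff_zpow_eq_one.2
    ((map_zpow (QuotientGroup.mk' I) a i).symm.trans ((QuotientGroup.eq_one_iff _).2 hi)),
    (QuotientGroup.eq_one_iff _).1 ((map_pow (QuotientGroup.mk' I) a _).trans (pow_orderOf_eq_one _))⟩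

end Ht

/-- **[HT]** -/
theorem boxHT (RZ : BoxRZ p M) (RT : BoxRT p M) : BoxHT p M := by
  rintro G _ _ B D m hO K hN - hK ⟨δ, h1, h2, h3, h4, ⟨_, ⟨θ, hθ, rfl⟩, h5⟩, ⟨e, h6⟩, h7⟩
  have := Local.isPrime_of_isPModular m.hM
  have hZ : ∀ z ∈ Subgroup.center K, (z : G) ∈ Subgroup.center G := fun z hz =>
    Cmp.le_center m hO ((Subgroup.center K).map K.subtype) (Ab.map (fun x _ y hy =>
      Subgroup.mem_center_iff.1 hy x) _) ⟨z, hz, rfl⟩
  obtain ⟨χ, hχ, h8⟩ := hθ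
  obtain ⟨c, hc, -⟩ := CharactersDeep.Extraspecial.exists_central_hom χ.2
  let lam : Subgroup.center K →* ℂˣ := c.comp ((K.subtype.comp (Subgroup.center K).subtype).codRestrict _ fun z => hZ _ z.2)
  have hl : ∀ z : Subgroup.center K, (χ : G → ℂ) (z : K) = (χ : G → ℂ) 1 * lam z := fun z => by
    have h9 := hc 1 ⟨_, hZ _ z.2⟩
    rwa [one_mul] at h9
  have hi : Injective lam := (injective_iff_map_eq_one _).2 fun z hz =>
    Subtype.ext (Subtype.ext (m.faith χ hχ _ (hZ _ z.2) (by rw [hl, hz, Units.val_one, mul_one])))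
  obtain ⟨a1, a2, a3, k0, h10⟩ := Ht.ord_spec (Inn K) δ
  obtain ⟨X, Y, _, _, _, _, ⟨o⟩⟩ := Ht.exists_ovg lam hi a1 a3 h10.symm
    (Ht.fix_k0 h5 (fun z hz e => by
      have h11 := Cmp.ov_center h8 (hZ z hz) z.2
      change (θ : K → ℂ) z / _ = _ at h11
      rw [e, div_self (isIrr_apply_one_ne_zero θ.2), eq_comm, div_eq_one_iff_eq (isIrr_apply_one_ne_zero χ.2)] at h11
      exact Subtype.ext (m.faith χ hχ _ (hZ z hz) h11)) h2 h10.symm) h2 hZ fun g => h4 _ ⟨g, rfl⟩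
  refine o.main RZ RT m hK (fun h => (hp.out.dvd_mul.1 h).elim (fun h => h3 (h.trans a2)) m.zp) hi hχ hl
    h1 h6 ?_
  rw [← mul_assoc, mul_comm (Nat.card _), ← Subgroup.relIndex_mul_index (le_sup_right : _ ≤ K ⊔ Subgroup.center G),
    Subgroup.relIndex_sup_right]
  refine Nat.mul_lt_mul_of_pos_right (h7.trans_le (Subgroup.index_antitone fun z hz => ?_))
    (Nat.pos_of_ne_zero Subgroup.index_ne_zero_of_finite)
  exact Subgroup.mem_center_iff.2 fun k => Subtype.ext (Subgroup.mem_center_iff.1 hz k)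

end Cfsg.Agent.BH
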